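import Cfsg.Agent.H75.NoFF.Closure

/-!
No failure of factorization: an `S₃`-free group with trivial 2-core, faithful on a `GF(2)`-module,
has no offenders.
-/

set_option autoImplicit false
set_option linter.unusedSectionVars false
set_option linter.style.haveILetI false

namespace H75.NoFF

open H82.SFree

universe u v

theorem noFF_induct : ∀ n : ℕ, ∀ (G : Type u) [Group G] [Finite G] (V : Type v) [AddCommGroup V]
    [Finite V] [DistribMulAction G V], Nat.card G + Nat.card V = n → (∀ v : V, v + v = 0) →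
    (∀ g : G, (∀ v : V, g • v = v) → g = 1) → Cfsg.pCore 2 G = ⊥ →
    ¬ Cfsg.Involves (Equiv.Perm (Fin 3)) G → ∀ A : Subgroup G, (∀ a ∈ A, a * a = 1) → A ≠ ⊥ →
      Nat.card A * Nat.card (fixV A : AddSubgroup V) < Nat.card V := by
  intro n
  induction n using Nat.strong_induction_on with
  | _ n ih =>
  intro G _ _ V _ _ _ hn hV hfaith hcore hfree A₀ hA₀ hA₀1
  by_contra hcon
  rw [not_lt] at hcon
  classical
  haveI : Fact (Nat.Prime 2) := ⟨Nat.prime_two⟩
  obtain ⟨A, ⟨hA, hA1, hoff⟩, hmin⟩ := (Set.toFinite {A : Subgroup G | (∀ a ∈ A, a * a = 1) ∧ A ≠ ⊥ ∧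
    Nat.card V ≤ Nat.card A * Nat.card (fixV A : AddSubgroup V)}).exists_minimal ⟨A₀, hA₀, hA₀1, hcon⟩
  have hless : ∀ B : Subgroup G, B ≠ ⊥ → B ≤ A → B ≠ A →
      Nat.card B * Nat.card (fixV B : AddSubgroup V) < Nat.card V := fun B hB hBA hne => by
    by_contra hBoff
    exact hne (le_antisymm hBA (hmin ⟨fun b hb => hA b (hBA hb), hB, not_lt.1 hBoff⟩ hBA))
  have hquad := quadratic_of_minimal hV hA hoff hless
  obtain ⟨S, hAS⟩ := (card_eq_two_pow hA).exists_le_sylow
  set U : AddSubgroup V := fixV (S : Subgroup G) with hU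
  have hUno : NoOff (S : Subgroup G) U := fun B hB _ _ b hb u hu => hu b (hB hb)
  have hUinv : ∀ s ∈ (S : Subgroup G), ∀ u ∈ U, s • u ∈ U := fun s hs u hu => by
    rw [hu s hs]
    exact hu
  set V0 := gen G U with hV0
  have hV0no := closure_noOff hV hfree S U hUinv hUno
  have hAfix : A ≤ pstab V0 := by
    refine centralise (W := (⊤ : AddSubgroup V)) (fun b hb c hc u _ => hquad b hb u c hc)
      ((viol_top_iff hfaith A).2 hoff) le_top (hV0no.mono hAS) ?_
    intro B hBA hne hv
    by_cases hB : B = ⊥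
    · rw [hB]
      exact bot_le
    · exact absurd ((viol_top_iff hfaith B).1 hv) (not_le.2 (hless B hB hBA hne))
  haveI hNn : (pstab (G := G) V0).Normal := ⟨fun k hk g v hv => by
    rw [mul_smul, mul_smul, hk _ (smul_mem_gen g⁻¹ hv), smul_inv_smul]⟩
  by_cases hN : pstab (G := G) V0 = ⊤
  swap
  · -- restrict to the stabiliser
    set N := pstab (G := G) V0
    have hcoreN : Cfsg.pCore 2 N = ⊥ := by
      haveI : (Cfsg.pCore 2 N).Characteristic := inferInstance
      have h := Cfsg.Comp.le_pCore (G := G)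
        (N := (Cfsg.pCore 2 N).map N.subtype) inferInstance ((Cfsg.Comp.pCore_isPGroup 2).map _)
      rw [hcore, le_bot_iff] at h
      exact (Subgroup.map_eq_bot_iff_of_injective _ N.subtype_injective).1 h
    have hlt : Nat.card N + Nat.card V < n := by
      have := lt_of_le_of_ne (Subgroup.card_le_card_group N)
        (fun e => hN (Subgroup.eq_top_of_card_eq N e))
      omega
    have key := ih _ hlt N V rfl hV (fun x hx => Subtype.ext (hfaith x.1 hx)) hcoreN
      (fun h => hfree (H74.JA.involves_subgroup h)) (A.subgroupOf N) (fun x hx => Subtype.ext (hA _ hx))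
      (fun e => hA1 (by rwa [Subgroup.subgroupOf_eq_bot, disjoint_iff, inf_eq_left.2 hAfix] at e))
    rw [Nat.card_congr (Subgroup.subgroupOfEquivOfLe hAfix).toEquiv] at key
    have e : (fixV (A.subgroupOf N) : AddSubgroup V) = fixV A := by
      ext v
      exact ⟨fun hv x hx => hv ⟨x, hAfix hx⟩ hx, fun hv x hx => hv x.1 hx⟩
    rw [e] at key
    omega
  · -- a common fixed vector
    obtain ⟨v₀, hv₀⟩ : ∃ v : V, v ≠ 0 := by
      by_contra h
      push Not at h
      exact hA1 (eq_bot_iff.2 fun a _ => Subgroup.mem_bot.2 (hfaith a fun v => by rw [h (a • v), h v]))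
    obtain ⟨w, hwU, hw0⟩ : ∃ w ∈ U, w ≠ 0 := by
      have h2 : 2 ∣ Nat.card V := by
        rw [← addOrderOf_eq_prime (p := 2) (by rw [two_nsmul]; exact hV v₀) hv₀]
        exact addOrderOf_dvd_natCard v₀
      obtain ⟨w, hw, hne⟩ := IsPGroup.exists_fixed_point_of_prime_dvd_card_of_fixed_point
        S.isPGroup' V h2 (a := (0 : V)) (fun s => smul_zero (s : G))
      exact ⟨w, fun s hs => hw ⟨s, hs⟩, fun e => hne e.symm⟩
    have hw : ∀ g : G, g • w = w := fun g =>
      (hN ▸ Subgroup.mem_top g : g ∈ pstab V0) w (le_gen U hwU)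
    set Z : AddSubgroup V := fixV (⊤ : Subgroup G) with hZ
    have hwZ : w ∈ Z := fun g _ => hw g
    have hZfix : ∀ g : G, ∀ z ∈ Z, g • z = z := fun g z hz => hz g (Subgroup.mem_top g)
    letI act : DistribMulAction G (V ⧸ Z) :=
      { smul := fun g q => QuotientAddGroup.map Z Z (DistribSMul.toAddMonoidHom V g)
          (fun z hz => by
            show g • z ∈ Z
            rw [hZfix g z hz]; exact hz) q
        one_smul := fun q => by
          induction q using QuotientAddGroup.induction_on with
          | H x => exact congrArg QuotientAddGroup.mk (one_smul G x)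
        mul_smul := fun g h q => by
          induction q using QuotientAddGroup.induction_on with
          | H x => exact congrArg QuotientAddGroup.mk (mul_smul g h x)
        smul_zero := fun g => congrArg QuotientAddGroup.mk (smul_zero g)
        smul_add := fun g q q' => map_add _ q q' }
    have hmk : ∀ (g : G) (x : V), g • (QuotientAddGroup.mk x : V ⧸ Z) = QuotientAddGroup.mk (g • x) :=
      fun _ _ => rfl
    have hf : ∀ g : G, (∀ q : V ⧸ Z, g • q = q) → g = 1 := by
      intro g hg
      have hmem : g ∈ stabU (G := G) Z := ⟨fun z hz => hZfix g z hz, fun v =>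
        (QuotientAddGroup.eq_iff_sub_mem).1 ((hmk g v).symm.trans (hg _))⟩
      have hn' : (stabU (G := G) Z).Normal := ⟨fun k hk g => ⟨fun z hz => hZfix _ z hz, fun v => by
        have h := hk.2 (g⁻¹ • v)
        rw [← hZfix g _ h] at h
        rwa [smul_sub, smul_inv_smul, ← mul_smul, ← mul_smul] at h⟩⟩
      have h := Cfsg.Comp.le_pCore hn' (card_eq_two_pow fun k hk => stabU_sq hV hfaith hk) hmem
      rwa [hcore, Subgroup.mem_bot] at h
    have hcard : Nat.card V = Nat.card (V ⧸ Z) * Nat.card Z :=
      AddSubgroup.card_eq_card_quotient_mul_card_addSubgroup Z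
    have hlt : Nat.card G + Nat.card (V ⧸ Z) < n := by
      haveI : Nontrivial Z := ⟨⟨⟨w, hwZ⟩, 0, fun e => hw0 (congrArg Subtype.val e)⟩⟩
      have h2 := Finite.one_lt_card (α := Z)
      have h4 := Nat.card_pos (α := V ⧸ Z)
      nlinarith
    have hV' : ∀ q : V ⧸ Z, q + q = 0 := fun q => by
      induction q using QuotientAddGroup.induction_on with
      | H x => rw [← QuotientAddGroup.mk_add, hV, QuotientAddGroup.mk_zero]
    have key := ih _ hlt G (V ⧸ Z) rfl hV' hf hcore hfree A hA hA1
    have hle : Nat.card (fixV A : AddSubgroup V) ≤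
        Nat.card (fixV A : AddSubgroup (V ⧸ Z)) * Nat.card Z := by
      let f : (fixV A : AddSubgroup V) →+ (fixV A : AddSubgroup (V ⧸ Z)) :=
        ((QuotientAddGroup.mk' Z).comp (fixV A : AddSubgroup V).subtype).codRestrict _
          (fun x a ha => (hmk a x.1).trans (congrArg QuotientAddGroup.mk (x.2 a ha)))
      rw [AddSubgroup.card_eq_card_quotient_mul_card_addSubgroup f.ker,
        Nat.card_congr (QuotientAddGroup.quotientKerEquivRange f).toEquiv]
      refine Nat.mul_le_mul (Nat.card_le_card_of_injective _ f.range.subtype_injective) ?_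
      exact Nat.card_le_card_of_injective
        (fun x : f.ker => (⟨x.1.1, (QuotientAddGroup.eq_zero_iff _).1 (congrArg Subtype.val x.2)⟩ : Z))
        (fun x y e => Subtype.ext (Subtype.ext (congrArg Subtype.val e :)))
    have h5 := Nat.card_pos (α := Z)
    have h6 := Nat.mul_lt_mul_of_pos_right key h5
    have h7 := Nat.mul_le_mul_left (Nat.card A) hle
    rw [← Nat.mul_assoc] at h7
    omega

/-- No offenders in an `S₃`-free group with trivial 2-core. -/
theorem noFF {G : Type u} [Group G] [Finite G] {V : Type v} [AddCommGroup V] [Finite V]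
    [DistribMulAction G V] (hV : ∀ v : V, v + v = 0) (hfaith : ∀ g : G, (∀ v : V, g • v = v) → g = 1)
    (hcore : Cfsg.pCore 2 G = ⊥) (hfree : ¬ Cfsg.Involves (Equiv.Perm (Fin 3)) G)
    (A : Subgroup G) (hA : ∀ a ∈ A, a * a = 1) (hA1 : A ≠ ⊥) :
    Nat.card A * Nat.card (fixV A : AddSubgroup V) < Nat.card V :=
  noFF_induct _ G V rfl hV hfaith hcore hfree A hA hA1

end H75.NoFF
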