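import Cfsg.Agent.H82.SFree.NoFFUnique
import Cfsg.Agent.CompBasic

/-!
Quadratic over-offenders on invariant parts of a module over `GF(2)`: transfer along
homomorphisms, and the centralising lemma.
-/

set_option autoImplicit false
set_option linter.unusedSectionVars false

namespace H75.NoFF

open H82.SFree

universe u v u' v'

variable {G : Type u} [Group G] {V : Type v} [AddCommGroup V] [DistribMulAction G V]

/-- The pointwise stabiliser of a set of vectors. -/
def pstab (U : AddSubgroup V) : Subgroup G where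
  carrier := {g | ∀ u ∈ U, g • u = u}
  one_mem' := fun u _ => one_smul G u
  mul_mem' := fun hg hh u hu => by rw [mul_smul, hh u hu, hg u hu]
  inv_mem' := fun hg u hu => by rw [inv_smul_eq_iff, hg u hu]

theorem mem_pstab {U : AddSubgroup V} {g : G} :
    g ∈ pstab (G := G) U ↔ ∀ u ∈ U, g • u = u := Iff.rfl

/-- The setwise stabiliser. -/
def nst (L : AddSubgroup V) : Subgroup G where
  carrier := {g | ∀ v : V, g • v ∈ L ↔ v ∈ L}
  one_mem' := fun v => by rw [one_smul]
  mul_mem' := fun hg hh v => by rw [mul_smul, hg, hh]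
  inv_mem' := fun {g} hg v => by rw [← hg (g⁻¹ • v), smul_inv_smul]

theorem mem_nst_of_le {L : AddSubgroup V} {H : Subgroup G} (h : ∀ g ∈ H, ∀ v ∈ L, g • v ∈ L) :
    H ≤ nst L := fun g hg v =>
  ⟨fun hv => by simpa using h g⁻¹ (H.inv_mem hg) _ hv, h g hg v⟩

/-- Quadratic action of `B` on `U`. -/
def QuadOn (B : Subgroup G) (U : AddSubgroup V) : Prop :=
  ∀ b ∈ B, ∀ c ∈ B, ∀ u ∈ U, c • (b • u - u) = b • u - u

theorem QuadOn.mono {B B' : Subgroup G} {U U' : AddSubgroup V} (h : QuadOn B U) (hB : B' ≤ B)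
    (hU : U' ≤ U) : QuadOn B' U' := fun b hb c hc u hu => h b (hB hb) c (hB hc) u (hU hu)

/-- `B` is a violator on `U`. -/
def Viol (B : Subgroup G) (U : AddSubgroup V) : Prop :=
  Nat.card U * Nat.card ↥(B ⊓ pstab U) ≤ Nat.card B * Nat.card ↥(U ⊓ fixV B)

/-- No quadratic subgroup of `S` is a violator on `U` unless trivial on it. -/
def NoOff (S : Subgroup G) (U : AddSubgroup V) : Prop :=
  ∀ B : Subgroup G, B ≤ S → QuadOn B U → Viol B U → B ≤ pstab U

theorem NoOff.mono {S S' : Subgroup G} {U : AddSubgroup V} (h : NoOff S U) (hS : S' ≤ S) :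
    NoOff S' U := fun B hB => h B (hB.trans hS)

theorem card_pos' [Finite V] (U : AddSubgroup V) : 0 < Nat.card U := Nat.card_pos

/-- Second isomorphism theorem, by cardinalities. -/
theorem card_sup_mul_card_inf [Finite V] (H K : AddSubgroup V) :
    Nat.card ↥(H ⊔ K) * Nat.card ↥(H ⊓ K) = Nat.card H * Nat.card K := by
  have e := QuotientAddGroup.quotientInfEquivSumNormalQuotient H K
  have h1 := AddSubgroup.card_eq_card_quotient_mul_card_addSubgroup (K.addSubgroupOf H)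
  have h2 := AddSubgroup.card_eq_card_quotient_mul_card_addSubgroup (K.addSubgroupOf (H ⊔ K))
  have h3 : Nat.card (K.addSubgroupOf H) = Nat.card ↥(H ⊓ K) := by
    rw [← AddSubgroup.inf_addSubgroupOf_left]
    exact Nat.card_congr (AddSubgroup.addSubgroupOfEquivOfLe inf_le_left).toEquiv
  have h4 : Nat.card (K.addSubgroupOf (H ⊔ K)) = Nat.card K :=
    Nat.card_congr (AddSubgroup.addSubgroupOfEquivOfLe le_sup_right).toEquiv
  rw [h2, h1, h3, h4, Nat.card_congr e.toEquiv]
  ring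

/-- The centralising lemma. -/
theorem centralise [Finite G] [Finite V] {B : Subgroup G} {U W : AddSubgroup V}
    (hq : QuadOn B W) (hv : Viol B W) (hUW : U ≤ W) (hU : NoOff B U)
    (hmin : ∀ B' : Subgroup G, B' ≤ B → B' ≠ B → Viol B' W → B' ≤ pstab W) :
    B ≤ pstab U := by
  by_contra hne
  unfold Viol at hv
  set F : AddSubgroup V := W ⊓ fixV B with hF
  set B1 : Subgroup G := B ⊓ pstab U with hB1
  have hB1ne : B1 ≠ B := fun e => hne (e ▸ inf_le_right)
  have hnv : Nat.card B * Nat.card ↥(U ⊓ fixV B) < Nat.card U * Nat.card B1 := by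
    by_contra h
    exact hne (hU B le_rfl (hq.mono le_rfl hUW) (not_lt.1 h))
  have hK : B1 ⊓ pstab W = B ⊓ pstab W := by
    refine le_antisymm (inf_le_inf_right _ inf_le_left) fun x hx => ⟨⟨hx.1, fun u hu => hx.2 u (hUW hu)⟩, hx.2⟩
  have hsup : U ⊔ F ≤ W ⊓ fixV B1 := sup_le
    (le_inf hUW fun u hu b hb => hb.2 u hu) (le_inf inf_le_left fun w hw b hb => hw.2 b hb.1)
  have hUF : U ⊓ F = U ⊓ fixV B := by
    rw [hF, ← inf_assoc, inf_eq_left.2 hUW]
  have e := card_sup_mul_card_inf U F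
  rw [hUF] at e
  have hsup' := AddSubgroup.card_le_of_le hsup
  have hpos := card_pos' (U ⊓ fixV B)
  have hF0 := card_pos' F
  have key : Nat.card W * Nat.card ↥(B ⊓ pstab W) * Nat.card ↥(U ⊓ fixV B) <
      Nat.card B1 * Nat.card ↥(W ⊓ fixV B1) * Nat.card ↥(U ⊓ fixV B) := by
    calc Nat.card W * Nat.card ↥(B ⊓ pstab W) * Nat.card ↥(U ⊓ fixV B)
        ≤ Nat.card B * Nat.card F * Nat.card ↥(U ⊓ fixV B) := Nat.mul_le_mul_right _ hv
      _ = Nat.card B * Nat.card ↥(U ⊓ fixV B) * Nat.card F := by ring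
      _ < Nat.card U * Nat.card B1 * Nat.card F := Nat.mul_lt_mul_of_pos_right hnv hF0
      _ = Nat.card B1 * (Nat.card U * Nat.card F) := by ring
      _ = Nat.card B1 * (Nat.card ↥(U ⊔ F) * Nat.card ↥(U ⊓ fixV B)) := by rw [e]
      _ ≤ Nat.card B1 * (Nat.card ↥(W ⊓ fixV B1) * Nat.card ↥(U ⊓ fixV B)) :=
          Nat.mul_le_mul_left _ (Nat.mul_le_mul_right _ hsup')
      _ = Nat.card B1 * Nat.card ↥(W ⊓ fixV B1) * Nat.card ↥(U ⊓ fixV B) := by ring
  have key' := Nat.lt_of_mul_lt_mul_right key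
  have hB1W := hmin B1 inf_le_left hB1ne (by unfold Viol; rw [hK]; exact key'.le)
  have h1 : B ⊓ pstab W = B1 := by rw [← hK, inf_eq_left.2 hB1W]
  have h2 : W ⊓ fixV B1 = W := inf_eq_left.2 fun w hw b hb => hB1W hb w hw
  rw [h1, h2] at key'
  rw [Nat.mul_comm] at key'
  exact lt_irrefl _ key'

/-- A join of parts without over-offenders has none. -/
theorem noOff_iSup [Finite G] [Finite V] {ι : Sort*} {S : Subgroup G} (U : ι → AddSubgroup V)
    (h : ∀ i, NoOff S (U i)) : NoOff S (⨆ i, U i) := by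
  suffices ∀ n : ℕ, ∀ B : Subgroup G, Nat.card B = n → B ≤ S → QuadOn B (⨆ i, U i) →
      Viol B (⨆ i, U i) → B ≤ pstab (⨆ i, U i) from fun B => this _ B rfl
  intro n
  induction n using Nat.strong_induction_on with
  | _ n ih =>
  intro B hn hBS hq hv
  have hfix : ∀ i, U i ≤ fixV B := fun i u hu b hb => by
    refine centralise hq hv (le_iSup U i) ((h i).mono hBS) ?_ hb u hu
    intro B' hB'B hne hv'
    refine ih _ ?_ B' rfl (hB'B.trans hBS) (hq.mono hB'B le_rfl) hv'
    rw [← hn]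
    exact lt_of_le_of_ne (Subgroup.card_le_of_le hB'B)
      fun e => hne (Subgroup.eq_of_le_of_card_ge hB'B e.ge)
  have hle : (⨆ i, U i) ≤ fixV B := iSup_le hfix
  exact fun b hb u hu => hle hu b hb

/-- The smallest part containing `U` invariant under everything. -/
def gen (G : Type u) [Group G] {V : Type v} [AddCommGroup V] [DistribMulAction G V]
    (U : AddSubgroup V) : AddSubgroup V :=
  ⨆ g : G, U.map (DistribSMul.toAddMonoidHom V g)

theorem le_gen (U : AddSubgroup V) : U ≤ gen G U :=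
  fun u hu => le_iSup (fun g : G => U.map (DistribSMul.toAddMonoidHom V g)) 1
    ⟨u, hu, one_smul G u⟩

theorem gen_le {U W : AddSubgroup V} (hU : U ≤ W) (hW : ∀ g : G, ∀ w ∈ W, g • w ∈ W) :
    gen G U ≤ W :=
  iSup_le fun g => by rintro _ ⟨u, hu, rfl⟩; exact hW g u (hU hu)

theorem smul_mem_gen {U : AddSubgroup V} (g : G) {v : V} (hv : v ∈ gen G U) : g • v ∈ gen G U := by
  have h : (gen G U).map (DistribSMul.toAddMonoidHom V g) ≤ gen G U := by
    rw [gen, AddSubgroup.map_iSup]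
    refine iSup_le fun h => ?_
    rintro _ ⟨_, ⟨u, hu, rfl⟩, rfl⟩
    exact le_iSup (fun g : G => U.map (DistribSMul.toAddMonoidHom V g)) (g * h)
      ⟨u, hu, mul_smul g h u⟩
  exact h ⟨v, hv, rfl⟩

section Transfer

variable {G' : Type u'} [Group G'] {V' : Type v'} [AddCommGroup V'] [DistribMulAction G' V']
variable (φ : G →* G') (f : V' →+ V)

theorem pstab_map (hf : Function.Injective f) (heq : ∀ (g : G) (w : V'), f (φ g • w) = g • f w)
    (U' : AddSubgroup V') : pstab (G := G) (U'.map f) = (pstab U').comap φ := by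
  ext g
  constructor
  · intro h w hw
    exact hf ((heq g w).trans (h (f w) ⟨w, hw, rfl⟩))
  · rintro h _ ⟨w, hw, rfl⟩
    rw [← heq, h w hw]

theorem inf_fixV_map (hf : Function.Injective f) (heq : ∀ (g : G) (w : V'), f (φ g • w) = g • f w)
    (U' : AddSubgroup V') (B : Subgroup G) :
    U'.map f ⊓ fixV B = (U' ⊓ fixV (B.map φ)).map f := by
  ext v
  constructor
  · rintro ⟨⟨w, hw, rfl⟩, hv⟩
    refine ⟨w, ⟨hw, ?_⟩, rfl⟩
    rintro _ ⟨b, hb, rfl⟩
    exact hf ((heq b w).trans (hv b hb))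
  · rintro ⟨w, ⟨hw, hw'⟩, rfl⟩
    exact ⟨⟨w, hw, rfl⟩, fun b hb => by rw [← heq, hw' _ ⟨b, hb, rfl⟩]⟩

theorem quadOn_map (hf : Function.Injective f) (heq : ∀ (g : G) (w : V'), f (φ g • w) = g • f w)
    (U' : AddSubgroup V') (B : Subgroup G) :
    QuadOn B (U'.map f) ↔ QuadOn (B.map φ) U' := by
  constructor
  · rintro h _ ⟨b, hb, rfl⟩ _ ⟨c, hc, rfl⟩ w hw
    apply hf
    rw [heq, map_sub, heq]
    exact h b hb c hc _ ⟨w, hw, rfl⟩
  · rintro h b hb c hc _ ⟨w, hw, rfl⟩
    rw [← heq, ← map_sub, ← heq, h _ ⟨b, hb, rfl⟩ _ ⟨c, hc, rfl⟩ w hw]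

theorem card_map_mul_card_ker (B : Subgroup G) :
    Nat.card (B.map φ) * Nat.card ↥(B ⊓ φ.ker) = Nat.card B := by
  have h := Subgroup.card_eq_card_quotient_mul_card_subgroup (φ.domRestrict B).ker
  have e1 : Nat.card (B ⧸ (φ.domRestrict B).ker) = Nat.card (B.map φ) := by
    rw [Nat.card_congr (QuotientGroup.quotientKerEquivRange _).toEquiv, MonoidHom.domRestrict_range]
  have e2 : Nat.card (φ.domRestrict B).ker = Nat.card ↥(B ⊓ φ.ker) := by
    rw [MonoidHom.ker_domRestrict, inf_comm, ← Subgroup.inf_subgroupOf_right]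
    exact Nat.card_congr (Subgroup.subgroupOfEquivOfLe inf_le_right).toEquiv
  rw [h, e1, e2]

theorem viol_map [Finite G] (hf : Function.Injective f)
    (heq : ∀ (g : G) (w : V'), f (φ g • w) = g • f w) (U' : AddSubgroup V') (B : Subgroup G) :
    Viol B (U'.map f) ↔ Viol (B.map φ) U' := by
  unfold Viol
  rw [pstab_map φ f hf heq, inf_fixV_map φ f hf heq, AddSubgroup.card_map_of_injective hf,
    AddSubgroup.card_map_of_injective hf, ← card_map_mul_card_ker φ B,
    ← card_map_mul_card_ker φ (B ⊓ (pstab U').comap φ)]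
  have e1 : B ⊓ (pstab U').comap φ ⊓ φ.ker = B ⊓ φ.ker :=
    le_antisymm (inf_le_inf_right _ inf_le_left) fun x hx =>
      ⟨⟨hx.1, show φ x ∈ pstab U' by rw [MonoidHom.mem_ker.1 hx.2]; exact one_mem _⟩, hx.2⟩
  have e2 : (B ⊓ (pstab U').comap φ).map φ = B.map φ ⊓ pstab U' := by
    ext y
    constructor
    · rintro ⟨x, ⟨hx, hx'⟩, rfl⟩
      exact ⟨⟨x, hx, rfl⟩, hx'⟩
    · rintro ⟨⟨x, hx, rfl⟩, hy⟩
      exact ⟨x, ⟨hx, hy⟩, rfl⟩
  rw [e1, e2, ← Nat.mul_assoc]
  have hpos : 0 < Nat.card ↥(B ⊓ φ.ker) := Nat.card_pos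
  constructor
  · intro h
    refine Nat.le_of_mul_le_mul_right ?_ hpos
    calc _ ≤ _ := h
      _ = _ := by ring
  · intro h
    calc _ ≤ Nat.card (B.map φ) * Nat.card ↥(U' ⊓ fixV (B.map φ)) * Nat.card ↥(B ⊓ φ.ker) :=
          Nat.mul_le_mul_right _ h
      _ = _ := by ring

theorem noOff_of_map [Finite G] (hf : Function.Injective f)
    (heq : ∀ (g : G) (w : V'), f (φ g • w) = g • f w) (U' : AddSubgroup V') {S : Subgroup G}
    {S' : Subgroup G'} (hS : S.map φ ≤ S') (h : NoOff S' U') : NoOff S (U'.map f) := by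
  intro B hB hq hv
  rw [pstab_map φ f hf heq, ← Subgroup.map_le_iff_le_comap]
  exact h _ ((Subgroup.map_mono hB).trans hS) ((quadOn_map φ f hf heq U' B).1 hq)
    ((viol_map φ f hf heq U' B).1 hv)

theorem noOff_to_map [Finite G] (hf : Function.Injective f)
    (heq : ∀ (g : G) (w : V'), f (φ g • w) = g • f w) (U' : AddSubgroup V') {S : Subgroup G}
    {S' : Subgroup G'} (hS : S' ≤ S.map φ) (h : NoOff S (U'.map f)) : NoOff S' U' := by
  intro B' hB hq hv
  have he : (S ⊓ B'.comap φ).map φ = B' := by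
    refine le_antisymm (Subgroup.map_le_iff_le_comap.2 inf_le_right) fun y hy => ?_
    obtain ⟨x, hx, rfl⟩ := hS (hB hy)
    exact ⟨x, ⟨hx, hy⟩, rfl⟩
  rw [← he, Subgroup.map_le_iff_le_comap, ← pstab_map φ f hf heq]
  exact h _ inf_le_left ((quadOn_map φ f hf heq U' _).2 (he.symm ▸ hq))
    ((viol_map φ f hf heq U' _).2 (he.symm ▸ hv))

end Transfer

/-- Transport by an element. -/
theorem noOff_smul [Finite G] {S : Subgroup G} {U : AddSubgroup V} (g : G) (h : NoOff S U) :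
    NoOff (cjS g S) (U.map (DistribSMul.toAddMonoidHom V g)) := by
  refine noOff_of_map (MulAut.conj g⁻¹).toMonoidHom (DistribSMul.toAddMonoidHom V g)
    (MulAction.injective g) ?_ U ?_ h
  · intro x w
    show g • ((g⁻¹ * x * g⁻¹⁻¹) • w) = x • (g • w)
    rw [← mul_smul, ← mul_smul, inv_inv]
    congr 1
    group
  · show cjS g⁻¹ (cjS g S) ≤ S
    rw [← cjS_mul, inv_mul_cancel, cjS_one]

end H75.NoFF
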