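import Mathlib

/-!
For a simple module `N` over a finite ring there is an idempotent acting as the identity on `N`
whose image in any finite module has order a power of `|N|`.
-/

set_option autoImplicit false
set_option linter.unusedSectionVars false
set_option linter.style.haveILetI false

namespace H75.NoFF

universe u v w

/-- A power of any element of a finite monoid is idempotent. -/
theorem exists_pow_idem {M : Type u} [Monoid M] [Finite M] (f : M) :
    ∃ k, 1 ≤ k ∧ f ^ k * f ^ k = f ^ k := by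
  obtain ⟨i, j, hne, hij⟩ := Finite.exists_ne_map_eq_of_infinite (fun n : ℕ => f ^ n)
  wlog hlt : i < j generalizing i j
  · exact this j i (Ne.symm hne) hij.symm (by omega)
  obtain ⟨p, hp⟩ := Nat.exists_eq_add_of_lt hlt
  subst hp
  set q := p + 1 with hq
  have h0 : f ^ i = f ^ (i + q) := by rw [hq, ← add_assoc]; exact hij
  have h1 : ∀ n, i ≤ n → f ^ (n + q) = f ^ n := by
    intro n hn
    obtain ⟨d, rfl⟩ := Nat.exists_eq_add_of_le hn
    rw [show i + d + q = (i + q) + d by ring, pow_add, ← h0, ← pow_add]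
  have h2 : ∀ t n, i ≤ n → f ^ (n + t * q) = f ^ n := by
    intro t
    induction t with
    | zero => simp
    | succ t ih =>
      intro n hn
      rw [Nat.succ_mul, ← add_assoc, h1 _ (hn.trans (Nat.le_add_right _ _)), ih n hn]
  refine ⟨(i + 1) * q, ?_, ?_⟩
  · exact Nat.mul_pos (Nat.succ_pos _) (Nat.succ_pos _)
  · rw [← pow_add]
    refine h2 _ _ ?_
    calc i ≤ i + 1 := Nat.le_succ i
      _ ≤ (i + 1) * q := Nat.le_mul_of_pos_right _ (Nat.succ_pos p)

variable {A : Type u} [Ring A]

/-- The elements of `I` killing `Y`. -/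
def killIn (I : Ideal A) (Y : Type v) [AddCommGroup Y] [Module A Y] : Ideal A where
  carrier := {a | a ∈ I ∧ ∀ y : Y, a • y = 0}
  zero_mem' := ⟨I.zero_mem, fun y => zero_smul A y⟩
  add_mem' := fun ha hb => ⟨I.add_mem ha.1 hb.1, fun y => by rw [add_smul, ha.2, hb.2, add_zero]⟩
  smul_mem' := fun c a ha => ⟨I.smul_mem c ha.1, fun y => by rw [smul_eq_mul, mul_smul, ha.2, smul_zero]⟩

theorem killIn_right {I : Ideal A} (hI : ∀ i ∈ I, ∀ a : A, i * a ∈ I) (Y : Type v) [AddCommGroup Y]
    [Module A Y] : ∀ i ∈ killIn I Y, ∀ a : A, i * a ∈ killIn I Y :=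
  fun i hi a => ⟨hI i hi.1 a, fun y => by rw [mul_smul]; exact hi.2 _⟩

/-- A simple module, as a predicate. -/
def IsSimp (A : Type u) [Ring A] (Y : Type v) [AddCommGroup Y] [Module A Y] : Prop :=
  Nontrivial Y ∧ ∀ Z : Submodule A Y, Z = ⊥ ∨ Z = ⊤

/-- A two-sided ideal not killing a simple finite module has an idempotent acting as identity. -/
theorem exists_idem_id [Finite A] {Y : Type v} [AddCommGroup Y] [Module A Y] [Finite Y]
    (hY : IsSimp A Y) {I : Ideal A} (hI : ∀ i ∈ I, ∀ a : A, i * a ∈ I)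
    (hne : ∃ i ∈ I, ∃ y : Y, i • y ≠ 0) :
    ∃ e ∈ I, e * e = e ∧ ∀ y : Y, e • y = y := by
  classical
  let T : A → ℕ := fun e => {y : Y | e • y = y}.ncard
  obtain ⟨e, ⟨heI, hee⟩, hmax⟩ :=
    (Set.toFinite {e : A | e ∈ I ∧ e * e = e}).exists_maximalFor T _ ⟨0, I.zero_mem, mul_zero 0⟩
  refine ⟨e, heI, hee, ?_⟩
  by_contra hcon
  push Not at hcon
  obtain ⟨y0, hy0⟩ := hcon
  set w := y0 - e • y0 with hw
  have hew : e • w = 0 := by rw [hw, smul_sub, ← mul_smul, hee, sub_self]
  have hw0 : w ≠ 0 := fun h => hy0 (sub_eq_zero.1 h).symm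
  -- some element of `I` fixes `w`
  obtain ⟨i, hiI, hiw⟩ : ∃ i ∈ I, i • w = w := by
    let Z : Submodule A Y :=
      { carrier := {z | ∃ i ∈ I, i • w = z}
        zero_mem' := ⟨0, I.zero_mem, zero_smul A w⟩
        add_mem' := by
          rintro _ _ ⟨i, hi, rfl⟩ ⟨j, hj, rfl⟩
          exact ⟨i + j, I.add_mem hi hj, add_smul i j w⟩
        smul_mem' := by
          rintro c _ ⟨i, hi, rfl⟩
          exact ⟨c * i, I.mul_mem_left c hi, mul_smul c i w⟩ }
    rcases hY.2 Z with hZ | hZ
    · exfalso
      let K : Submodule A Y :=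
        { carrier := {z | ∀ i ∈ I, i • z = 0}
          zero_mem' := fun i _ => smul_zero i
          add_mem' := fun hx hy i hi => by rw [smul_add, hx i hi, hy i hi, add_zero]
          smul_mem' := fun c z hz i hi => by rw [← mul_smul]; exact hz _ (hI i hi c) }
      have hwK : w ∈ K := fun i hi => by
        have : i • w ∈ Z := ⟨i, hi, rfl⟩
        rw [hZ] at this
        exact (Submodule.mem_bot A).1 this
      rcases hY.2 K with hK | hK
      · exact hw0 ((Submodule.mem_bot A).1 (hK ▸ hwK))
      · obtain ⟨i, hi, y, hy⟩ := hne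
        exact hy ((hK ▸ Submodule.mem_top (x := y) : y ∈ K) i hi)
    · exact (hZ ▸ Submodule.mem_top (x := w) : w ∈ Z)
  set f := (1 - e) * i * (1 - e) with hf
  have hfI : f ∈ I := hI _ (I.mul_mem_left _ hiI) _
  have hfw : f • w = w := by
    rw [hf, mul_smul, sub_smul (1 : A) e w, one_smul, hew, sub_zero, mul_smul, hiw, sub_smul,
      one_smul, hew, sub_zero]
  have hef : e * f = 0 := by
    rw [hf, ← mul_assoc, ← mul_assoc, show e * (1 - e) = 0 by rw [mul_sub, mul_one, hee, sub_self],
      zero_mul, zero_mul]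
  have hfe : f * e = 0 := by
    rw [hf, mul_assoc, show (1 - e) * e = 0 by rw [sub_mul, one_mul, hee, sub_self], mul_zero]
  obtain ⟨k, hk, hkk⟩ := exists_pow_idem f
  set g := f ^ k with hg
  obtain ⟨k', rfl⟩ := Nat.exists_eq_add_of_le hk
  have heg : e * g = 0 := by rw [hg, pow_add, pow_one, ← mul_assoc, hef, zero_mul]
  have hge : g * e = 0 := by
    rw [hg, add_comm, pow_add, pow_one, mul_assoc, hfe, mul_zero]
  have hgI : g ∈ I := by
    rw [hg, pow_add, pow_one]
    exact hI f hfI _
  have hgw : g • w = w := by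
    rw [hg]
    clear hkk hg heg hge hgI g hk
    induction k' with
    | zero => rw [pow_one]; exact hfw
    | succ n ih => rw [← add_assoc, pow_succ, mul_smul, hfw, ih]
  have hidem : (e + g) * (e + g) = e + g := by
    rw [add_mul, mul_add, mul_add, hee, heg, hge, hkk, add_zero, zero_add]
  have hlt : T e < T (e + g) := by
    refine Set.ncard_lt_ncard ⟨fun y (hy : e • y = y) => ?_, fun hsub => ?_⟩ (Set.toFinite _)
    · show (e + g) • y = y
      rw [add_smul, hy]
      nth_rw 2 [← hy]
      rw [← mul_smul, hge, zero_smul, add_zero]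
    · have hw' : w ∈ {y : Y | (e + g) • y = y} := by
        show (e + g) • w = w
        rw [add_smul, hew, hgw, zero_add]
      have : e • w = w := hsub hw'
      exact hw0 (this.symm.trans hew)
  exact absurd (hmax ⟨I.add_mem heI hgI, hidem⟩ hlt.le) (not_le.2 hlt)

/-- The block idempotent of a simple module. -/
theorem exists_block [Finite A] (N : Type v) [AddCommGroup N] [Module A N] [Finite N]
    (hN : IsSimp A N) :
    ∃ e : A, e * e = e ∧ (∀ n : N, e • n = n) ∧
      ∀ (Y : Type w) [AddCommGroup Y] [Module A Y] [Finite Y],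
        ∃ k : ℕ, Nat.card {y : Y | e • y = y} = Nat.card N ^ k := by
  classical
  haveI := hN.1
  obtain ⟨n1, hn1⟩ := exists_ne (0 : N)
  -- a least two-sided ideal not killing `N`
  obtain ⟨I, ⟨hI, hIne⟩, hImin⟩ := (Set.toFinite {I : Ideal A | (∀ i ∈ I, ∀ a : A, i * a ∈ I) ∧
      ∃ i ∈ I, ∃ n : N, i • n ≠ 0}).exists_minimal
    ⟨⊤, fun _ _ _ => Submodule.mem_top, 1, Submodule.mem_top, n1, by rw [one_smul]; exact hn1⟩
  obtain ⟨e, heI, hee, heN⟩ := exists_idem_id hN hI hIne
  -- a least left ideal inside `I` not killing `N`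
  obtain ⟨L, ⟨hLI, hLne⟩, hLmin⟩ := (Set.toFinite {L : Ideal A | L ≤ I ∧
      ∃ i ∈ L, ∃ n : N, i • n ≠ 0}).exists_minimal ⟨I, le_rfl, hIne⟩
  have simp_case : ∀ (Y : Type w) [AddCommGroup Y] [Module A Y] [Finite Y], IsSimp A Y →
      (∀ y : Y, e • y = 0) ∨ ((∀ y : Y, e • y = y) ∧ Nat.card Y = Nat.card N) := by
    intro Y _ _ _ hY
    by_cases hkill : ∀ i ∈ I, ∀ y : Y, i • y = 0
    · exact Or.inl (hkill e heI)
    right
    push Not at hkill
    obtain ⟨e', he'I, _, he'Y⟩ := exists_idem_id hY hI hkill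
    -- what kills `Y` kills `N`
    have hYN : ∀ i ∈ I, (∀ y : Y, i • y = 0) → ∀ n : N, i • n = 0 := by
      intro i hiI hiY n
      by_contra hne
      obtain ⟨j, hj, y, hjy⟩ := hkill
      exact hjy ((hImin (y := killIn I Y) ⟨killIn_right hI Y, i, ⟨hiI, hiY⟩, n, hne⟩
        (fun _ h => h.1) hj).2 y)
    -- what kills `N` kills `Y`
    have hNY : ∀ i ∈ I, (∀ n : N, i • n = 0) → ∀ y : Y, i • y = 0 := by
      intro i hiI hiN y
      by_contra hne
      obtain ⟨e'', he'', _, he''Y⟩ := exists_idem_id hY (killIn_right hI N) ⟨i, ⟨hiI, hiN⟩, y, hne⟩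
      have h := hYN (e - e * e'') (I.sub_mem heI (hI e heI e''))
        (fun z => by rw [sub_smul, mul_smul, he''Y, sub_self]) n1
      rw [sub_smul, mul_smul, he''.2, smul_zero, sub_zero, heN] at h
      exact hn1 h
    have heY : ∀ y : Y, e • y = y := fun y => by
      have h := hNY (e' - e' * e) (I.sub_mem he'I (hI e' he'I e))
        (fun n => by rw [sub_smul, mul_smul, heN, sub_self]) y
      rw [sub_smul, mul_smul, he'Y, he'Y, sub_eq_zero] at h
      exact h.symm
    refine ⟨heY, ?_⟩
    -- `Y` and `N` are images of `L` with the same kernel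
    have key : ∀ (Z : Type (max v w)) [AddCommGroup Z] [Module A Z], IsSimp A Z →
        (∀ i ∈ L, (∀ n : N, i • n = 0) ↔ ∀ z : Z, i • z = 0) →
        Nat.card Z = Nat.card (L ⧸ Submodule.comap L.subtype (killIn L N)) := by
      intro Z _ _ hZ hiff
      obtain ⟨l0, hl0, n, hn⟩ := hLne
      have : ∃ z : Z, l0 • z ≠ 0 := by
        by_contra h
        push Not at h
        exact hn ((hiff l0 hl0).2 h n)
      obtain ⟨z0, hz0⟩ := this
      let ψ : L →ₗ[A] Z := (LinearMap.toSpanSingleton A Z z0).comp L.subtype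
      have hψ : ∀ l : L, ψ l = (l : A) • z0 := fun _ => rfl
      have hsurj : Function.Surjective ψ := by
        rcases hZ.2 (LinearMap.range ψ) with h | h
        · exfalso
          have : ψ ⟨l0, hl0⟩ ∈ LinearMap.range ψ := LinearMap.mem_range_self _ _
          rw [h, Submodule.mem_bot] at this
          exact hz0 this
        · exact LinearMap.range_eq_top.1 h
      have hker : LinearMap.ker ψ = Submodule.comap L.subtype (killIn L N) := by
        ext l
        constructor
        · intro hl
          refine ⟨l.2, ?_⟩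
          intro m
          by_contra hm
          let L' : Ideal A := Submodule.map L.subtype (LinearMap.ker ψ)
          have hL' : L' ≤ L := Submodule.map_subtype_le _ _
          have hh := hLmin (y := L') ⟨hL'.trans hLI, l, ⟨l, hl, rfl⟩, m, hm⟩ hL'
          obtain ⟨l1, hl1, hl1'⟩ := hh hl0
          have := hψ l1
          rw [show ψ l1 = 0 from hl1] at this
          exact hz0 (by rw [← hl1']; exact this.symm)
        · rintro ⟨_, hl⟩
          exact (hiff l l.2).1 hl z0
      rw [← hker]
      exact (Nat.card_congr (ψ.quotKerEquivOfSurjective hsurj).toEquiv).symm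
    have hY' : Nat.card (ULift.{max v w} Y) = Nat.card (L ⧸ Submodule.comap L.subtype (killIn L N)) := by
      refine key _ ⟨haveI := hY.1; inferInstance, fun Z => ?_⟩ fun i hi => ?_
      · rcases hY.2 (Z.map (ULift.moduleEquiv : ULift.{max v w} Y ≃ₗ[A] Y).toLinearMap) with h | h
        · left
          rw [eq_bot_iff]
          intro z hz
          have : (ULift.moduleEquiv : ULift.{max v w} Y ≃ₗ[A] Y) z ∈
              Z.map (ULift.moduleEquiv : ULift.{max v w} Y ≃ₗ[A] Y).toLinearMap := ⟨z, hz, rfl⟩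
          rw [h, Submodule.mem_bot, LinearEquiv.map_eq_zero_iff] at this
          exact (Submodule.mem_bot A).2 this
        · right
          rw [eq_top_iff]
          intro z _
          obtain ⟨z', hz', he⟩ := (h ▸ Submodule.mem_top :
            (ULift.moduleEquiv : ULift.{max v w} Y ≃ₗ[A] Y) z ∈
              Z.map (ULift.moduleEquiv : ULift.{max v w} Y ≃ₗ[A] Y).toLinearMap)
          exact (ULift.moduleEquiv : ULift.{max v w} Y ≃ₗ[A] Y).injective he ▸ hz'
      · exact ⟨fun h z => ULift.ext _ _ (hNY i (hLI hi) h z.down),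
          fun h => hYN i (hLI hi) fun y => congrArg ULift.down (h ⟨y⟩)⟩
    have hN' : Nat.card (ULift.{max v w} N) = Nat.card (L ⧸ Submodule.comap L.subtype (killIn L N)) := by
      refine key _ ⟨inferInstance, fun Z => ?_⟩ fun i _ => ?_
      · rcases hN.2 (Z.map (ULift.moduleEquiv : ULift.{max v w} N ≃ₗ[A] N).toLinearMap) with h | h
        · left
          rw [eq_bot_iff]
          intro z hz
          have : (ULift.moduleEquiv : ULift.{max v w} N ≃ₗ[A] N) z ∈
              Z.map (ULift.moduleEquiv : ULift.{max v w} N ≃ₗ[A] N).toLinearMap := ⟨z, hz, rfl⟩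
          rw [h, Submodule.mem_bot, LinearEquiv.map_eq_zero_iff] at this
          exact (Submodule.mem_bot A).2 this
        · right
          rw [eq_top_iff]
          intro z _
          obtain ⟨z', hz', he⟩ := (h ▸ Submodule.mem_top :
            (ULift.moduleEquiv : ULift.{max v w} N ≃ₗ[A] N) z ∈
              Z.map (ULift.moduleEquiv : ULift.{max v w} N ≃ₗ[A] N).toLinearMap)
          exact (ULift.moduleEquiv : ULift.{max v w} N ≃ₗ[A] N).injective he ▸ hz'
      · exact ⟨fun h z => ULift.ext _ _ (h z.down), fun h n => congrArg ULift.down (h ⟨n⟩)⟩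
    rw [Nat.card_congr Equiv.ulift.symm, hY', ← hN', Nat.card_congr Equiv.ulift]
  refine ⟨e, hee, heN, ?_⟩
  suffices ∀ m : ℕ, ∀ (Y : Type w) [AddCommGroup Y] [Module A Y] [Finite Y], Nat.card Y = m →
      ∃ k : ℕ, Nat.card {y : Y | e • y = y} = Nat.card N ^ k from fun Y _ _ _ => this _ Y rfl
  intro m
  induction m using Nat.strong_induction_on with
  | _ m ih =>
  intro Y _ _ _ hm
  by_cases hY0 : ∀ y : Y, y = 0
  · refine ⟨0, ?_⟩
    haveI : Subsingleton Y := ⟨fun a b => by rw [hY0 a, hY0 b]⟩
    haveI : Nonempty {y : Y | e • y = y} := ⟨⟨0, smul_zero e⟩⟩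
    rw [pow_zero]
    exact Nat.card_unique
  push Not at hY0
  obtain ⟨y1, hy1⟩ := hY0
  obtain ⟨Z, hZne, hZmin⟩ := (Set.toFinite {Z : Submodule A Y | Z ≠ ⊥}).exists_minimal
    ⟨Submodule.span A {y1}, by simpa using hy1⟩
  have hZs : IsSimp A Z := by
    refine ⟨Submodule.nontrivial_iff_ne_bot.2 hZne, fun W => ?_⟩
    by_cases hW : W.map Z.subtype = ⊥
    · left
      exact Submodule.map_injective_of_injective Z.subtype_injective (hW.trans (Submodule.map_bot _).symm)
    · right
      have h := hZmin (y := W.map Z.subtype) hW (Submodule.map_subtype_le _ _)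
      rw [eq_top_iff]
      intro z _
      obtain ⟨z', hz', he⟩ := h z.2
      exact (Subtype.ext he : z' = z) ▸ hz'
  -- the map to the quotient, restricted to the fixed vectors
  let FY : AddSubgroup Y :=
    { carrier := {y | e • y = y}
      zero_mem' := smul_zero e
      add_mem' := fun {a b} ha hb => show e • (a + b) = a + b by
        rw [smul_add, show e • a = a from ha, show e • b = b from hb]
      neg_mem' := fun {a} ha => show e • (-a) = -a by rw [smul_neg, show e • a = a from ha] }
  let FQ : AddSubgroup (Y ⧸ Z) :=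
    { carrier := {y | e • y = y}
      zero_mem' := smul_zero e
      add_mem' := fun {a b} ha hb => show e • (a + b) = a + b by
        rw [smul_add, show e • a = a from ha, show e • b = b from hb]
      neg_mem' := fun {a} ha => show e • (-a) = -a by rw [smul_neg, show e • a = a from ha] }
  let r : FY →+ FQ := (Z.mkQ.toAddMonoidHom.comp FY.subtype).codRestrict FQ fun y => by
    show e • Z.mkQ y.1 = Z.mkQ y.1
    rw [← map_smul]
    exact congrArg _ y.2
  have hr : Function.Surjective r := by
    rintro ⟨q, hq⟩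
    obtain ⟨y, rfl⟩ := Submodule.mkQ_surjective Z q
    refine ⟨⟨e • y, show e • (e • y) = e • y by rw [← mul_smul, hee]⟩, Subtype.ext ?_⟩
    show Z.mkQ (e • y) = Z.mkQ y
    rw [map_smul]
    exact hq
  have hcard := AddSubgroup.card_eq_card_quotient_mul_card_addSubgroup r.ker
  rw [Nat.card_congr (QuotientAddGroup.quotientKerEquivOfSurjective r hr).toEquiv] at hcard
  haveI : Finite (Y ⧸ Z) := Finite.of_surjective _ (Submodule.mkQ_surjective Z)
  obtain ⟨a, ha⟩ := ih (Nat.card (Y ⧸ Z)) (by
    rw [← hm, Submodule.card_eq_card_quotient_mul_card Z]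
    haveI : Finite (Y ⧸ Z) := Finite.of_surjective _ (Submodule.mkQ_surjective Z)
    haveI := hZs.1
    have := Finite.one_lt_card (α := Z)
    have := Nat.card_pos (α := Y ⧸ Z)
    nlinarith) (Y ⧸ Z) rfl
  let kerEquiv : r.ker ≃ {z : Z | e • z = z} :=
    { toFun := fun y => ⟨⟨y.1.1, (Submodule.Quotient.mk_eq_zero Z).1 (congrArg Subtype.val y.2)⟩,
        Subtype.ext y.1.2⟩
      invFun := fun z => ⟨⟨z.1.1, show e • (z.1 : Y) = z.1 from congrArg Subtype.val z.2⟩,
        Subtype.ext ((Submodule.Quotient.mk_eq_zero Z).2 z.1.2)⟩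
      left_inv := fun _ => rfl
      right_inv := fun _ => rfl }
  obtain ⟨b, hb⟩ : ∃ b, Nat.card {z : Z | e • z = z} = Nat.card N ^ b := by
    rcases simp_case Z hZs with h | ⟨h, hc⟩
    · refine ⟨0, ?_⟩
      haveI : Subsingleton {z : Z | e • z = z} :=
        ⟨fun p q => Subtype.ext ((p.2.symm.trans (h p)).trans (q.2.symm.trans (h q)).symm)⟩
      haveI : Nonempty {z : Z | e • z = z} := ⟨⟨0, smul_zero e⟩⟩
      rw [pow_zero]
      exact Nat.card_unique
    · refine ⟨1, ?_⟩
      rw [pow_one, ← hc]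
      exact Nat.card_congr (Equiv.subtypeUnivEquiv h)
  refine ⟨a + b, ?_⟩
  show Nat.card FY = _
  rw [hcard, Nat.card_congr kerEquiv, hb, pow_add]
  congr 1

end H75.NoFF
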