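import Cfsg.Agent.H75.NoFF.Count
import Cfsg.Agent.H74.S4Iff
import Cfsg.Agent.H74.ThompsonA

/-!
The closure theorem: in an `S₃`-free group acting on a `GF(2)`-module, a part invariant under a
Sylow 2-subgroup without quadratic over-offenders generates an invariant part without any.
-/

set_option autoImplicit false
set_option linter.unusedSectionVars false
set_option linter.style.haveILetI false

namespace H75.NoFF

open H82.SFree

universe u v

theorem noThree_of_free {G : Type u} [Group G] [Finite G]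
    (h : ¬ Cfsg.Involves (Equiv.Perm (Fin 3)) G) : NoThree G := by
  intro a y ha hy he
  refine h ?_
  by_cases h1 : a = 1
  · exact H74.S4Section.involves_symm_three (x := a) (y := y) (k := 0) (l := 0)
      (by rw [h1, orderOf_one, pow_zero]) (by rw [hy, zero_add, pow_one]) he
  · exact H74.S4Section.involves_symm_three (x := a) (y := y) (k := 1) (l := 0)
      (by rw [pow_one]; exact orderOf_eq_prime (by rw [pow_two]; exact ha) h1)
      (by rw [hy, zero_add, pow_one]) he

variable {G : Type u} [Group G] {V : Type v} [AddCommGroup V] [DistribMulAction G V]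

theorem pstab_top_eq_bot (hfaith : ∀ g : G, (∀ v : V, g • v = v) → g = 1) :
    pstab (G := G) (⊤ : AddSubgroup V) = ⊥ :=
  eq_bot_iff.2 fun x hx => Subgroup.mem_bot.2 (hfaith x fun v => hx v (AddSubgroup.mem_top v))

theorem viol_top_iff (hfaith : ∀ g : G, (∀ v : V, g • v = v) → g = 1) (B : Subgroup G) :
    Viol B (⊤ : AddSubgroup V) ↔
      Nat.card V ≤ Nat.card B * Nat.card (fixV B : AddSubgroup V) := by
  unfold Viol
  rw [pstab_top_eq_bot hfaith, inf_bot_eq, Subgroup.card_bot, mul_one, top_inf_eq,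
    AddSubgroup.card_top]

/-- A 2-subgroup not maximal among those of `H` grows inside its normaliser. -/
theorem exists_bigger [Finite G] {T H : Subgroup G} (hT : T ≤ H)
    (h : ¬ ∀ T' : Subgroup G, IsPGroup 2 T' → T ≤ T' → T' ≤ H → T' = T) :
    ∃ T' : Subgroup G, IsPGroup 2 T' ∧ T < T' ∧ T' ≤ H ∧ T' ≤ Subgroup.normalizer (T : Set G) := by
  haveI : Fact (Nat.Prime 2) := ⟨Nat.prime_two⟩
  push Not at h
  obtain ⟨Q, hQ, hTQ, hQH, hne⟩ := h
  haveI : Group.IsNilpotent Q := hQ.isNilpotent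
  have hlt : T.subgroupOf Q < ⊤ := by
    rw [lt_top_iff_ne_top, Ne, Subgroup.subgroupOf_eq_top]
    exact fun hle => hne (le_antisymm hle hTQ)
  obtain ⟨x, hx, hxT⟩ := SetLike.exists_of_lt (Group.normalizerCondition_of_isNilpotent _ hlt)
  refine ⟨Q ⊓ Subgroup.normalizer (T : Set G), hQ.to_le inf_le_left,
    lt_of_le_of_ne (le_inf hTQ Subgroup.le_normalizer) fun e => hxT ?_,
    inf_le_left.trans hQH, inf_le_right⟩
  rw [Subgroup.mem_subgroupOf, e]
  refine ⟨x.2, Subgroup.mem_normalizer_iff.2 fun y => ?_⟩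
  constructor
  · intro hy
    exact (Subgroup.mem_normalizer_iff.1 hx ⟨y, hTQ hy⟩).1 hy
  · intro hy
    have hyQ : y ∈ Q := by
      have := Q.mul_mem (Q.mul_mem (Q.inv_mem x.2) (hTQ hy)) x.2
      simpa [mul_assoc] using this
    exact (Subgroup.mem_normalizer_iff.1 hx ⟨y, hyQ⟩).2 hy

/-- The hypothesis inherited from smaller groups. -/
def SubClosed (G : Type u) [Group G] (V : Type v) [AddCommGroup V] [DistribMulAction G V] : Prop :=
  ∀ H T : Subgroup G, H ≠ ⊤ → T ≤ H → IsPGroup 2 T →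
    (∀ T' : Subgroup G, IsPGroup 2 T' → T ≤ T' → T' ≤ H → T' = T) →
    ∀ U : AddSubgroup V, (∀ t ∈ T, ∀ u ∈ U, t • u ∈ U) → NoOff T U →
      ∃ W : AddSubgroup V, U ≤ W ∧ (∀ h ∈ H, ∀ w ∈ W, h • w ∈ W) ∧ NoOff T W

theorem closure_faithful [Finite G] [Finite V] (hV : ∀ v : V, v + v = 0)
    (hfaith : ∀ g : G, (∀ v : V, g • v = v) → g = 1) (h3 : NoThree G) (S : Sylow 2 G)
    (U : AddSubgroup V) (hinv : ∀ s ∈ (S : Subgroup G), ∀ u ∈ U, s • u ∈ U)
    (hU : NoOff (S : Subgroup G) U) (hgenU : gen G U = ⊤) (hIH : SubClosed G V) :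
    NoOff (S : Subgroup G) (⊤ : AddSubgroup V) := by
  classical
  haveI : Fact (Nat.Prime 2) := ⟨Nat.prime_two⟩
  by_contra hcon
  obtain ⟨B₀, hB₀S, hB₀q, hB₀v, hB₀n⟩ : ∃ B : Subgroup G, B ≤ (S : Subgroup G) ∧
      QuadOn B (⊤ : AddSubgroup V) ∧ Viol B (⊤ : AddSubgroup V) ∧ ¬ B ≤ pstab (⊤ : AddSubgroup V) := by
    by_contra h
    push Not at h
    exact hcon fun B h1 h2 h3' => h B h1 h2 h3'
  rw [pstab_top_eq_bot hfaith, le_bot_iff] at hB₀n
  obtain ⟨B, ⟨hBS, hBq, hBv, hBne⟩, hBmin⟩ := (Set.toFinite {B : Subgroup G | B ≤ (S : Subgroup G) ∧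
    QuadOn B (⊤ : AddSubgroup V) ∧ Viol B (⊤ : AddSubgroup V) ∧ B ≠ ⊥}).exists_minimal
    ⟨B₀, hB₀S, hB₀q, hB₀v, hB₀n⟩
  set P : AddSubgroup V := fixV B with hP
  set C : AddSubgroup V := fixV (⊤ : Subgroup G) with hC
  have hB2 : IsPGroup 2 B := S.isPGroup'.to_le hBS
  have hmin : ∀ B' : Subgroup G, B' ≤ B → B' ≠ B → Viol B' (⊤ : AddSubgroup V) →
      B' ≤ pstab (⊤ : AddSubgroup V) := by
    intro B' hle hne hv
    by_contra hn
    rw [pstab_top_eq_bot hfaith, le_bot_iff] at hn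
    exact hne (le_antisymm hle (hBmin ⟨hle.trans hBS, hBq.mono hle le_rfl, hv, hn⟩ hle))
  have hquad : ∀ b ∈ B, ∀ v : V, b • v - v ∈ P := fun b hb v c hc =>
    hBq b hb c hc v (AddSubgroup.mem_top v)
  have hvB : Nat.card V ≤ Nat.card B * Nat.card P := (viol_top_iff hfaith B).1 hBv
  -- the 2-core
  set R : Subgroup G := Cfsg.pCore 2 G with hRdef
  haveI hRn : R.Normal := by rw [hRdef]; infer_instance
  have hR2 : IsPGroup 2 R := Cfsg.Comp.pCore_isPGroup 2
  have hRS : R ≤ (S : Subgroup G) := IsPGroup.le_sylow_of_normal hR2 S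
  have hRconj : ∀ g : G, ∀ x ∈ R, g⁻¹ * x * g ∈ R := fun g x hx => by
    simpa using hRn.conj_mem x hx g⁻¹
  have hRno : NoOff R (⊤ : AddSubgroup V) := by
    rw [← hgenU]
    exact noOff_iSup _ fun g => (noOff_smul g hU).mono fun x hx => mem_cjS.2 (hRS (hRconj g x hx))
  have hBR : ¬ B ≤ R := fun hle => hBne (by
    have := hRno B hle hBq hBv
    rwa [pstab_top_eq_bot hfaith, le_bot_iff] at this)
  -- the largest part without over-offenders
  let L : Subgroup G → AddSubgroup V := fun T =>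
    ⨆ U' : {U' : AddSubgroup V // (∀ t ∈ T, ∀ u ∈ U', t • u ∈ U') ∧ NoOff T U'}, U'.1
  have hLno : ∀ T, NoOff T (L T) := fun T => noOff_iSup _ fun U' => U'.2.2
  have hLinv : ∀ T, ∀ t ∈ T, ∀ u ∈ L T, t • u ∈ L T := by
    intro T t ht u hu
    have hle : (L T).map (DistribSMul.toAddMonoidHom V t) ≤ L T := by
      rw [AddSubgroup.map_iSup]
      exact iSup_le fun U' => le_trans (by rintro _ ⟨w, hw, rfl⟩; exact U'.2.1 t ht w hw)
        (le_iSup (fun U' : {U' : AddSubgroup V // (∀ t ∈ T, ∀ u ∈ U', t • u ∈ U') ∧ NoOff T U'} =>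
          U'.1) U')
    exact hle ⟨u, hu, rfl⟩
  have hLle : ∀ T (U' : AddSubgroup V), (∀ t ∈ T, ∀ u ∈ U', t • u ∈ U') → NoOff T U' → U' ≤ L T :=
    fun T U' h1 h2 => le_iSup (fun U' : {U' : AddSubgroup V //
      (∀ t ∈ T, ∀ u ∈ U', t • u ∈ U') ∧ NoOff T U'} => U'.1) ⟨U', h1, h2⟩
  have hnorm : ∀ T : Subgroup G, Subgroup.normalizer (T : Set G) ≤ nst (L T) := by
    intro T
    refine mem_nst_of_le fun g hg u hu => ?_
    have hcj : cjS g T = T := by
      ext x
      rw [mem_cjS, Subgroup.mem_normalizer_iff.1 hg (g⁻¹ * x * g)]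
      simp [mul_assoc]
    refine hLle T ((L T).map (DistribSMul.toAddMonoidHom V g)) ?_
      (by have h := noOff_smul g (hLno T); rwa [hcj] at h) ⟨u, hu, rfl⟩
    rintro t ht _ ⟨w, hw, rfl⟩
    refine ⟨(g⁻¹ * t * g) • w, hLinv T _ ?_ w hw, ?_⟩
    · rw [← hcj, mem_cjS] at ht
      exact ht
    · show g • ((g⁻¹ * t * g) • w) = t • (g • w)
      rw [← mul_smul, ← mul_smul]
      congr 1
      group
  have hsub : ∀ H T : Subgroup G, H ≠ ⊤ → T ≤ H → IsPGroup 2 T →
      (∀ T' : Subgroup G, IsPGroup 2 T' → T ≤ T' → T' ≤ H → T' = T) → H ≤ nst (L T) := by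
    intro H T hH hTH hT hmax
    obtain ⟨W, hLW, hWinv, hWno⟩ := hIH H T hH hTH hT hmax (L T) (hLinv T) (hLno T)
    have he : W = L T := le_antisymm (hLle T W (fun t ht => hWinv t (hTH ht)) hWno) hLW
    rw [← he]
    exact mem_nst_of_le hWinv
  have htop : ∀ T : Subgroup G, IsPGroup 2 T → B ≤ T → nst (G := G) (L T) ≠ ⊤ := by
    intro T hT hBT htopT
    obtain ⟨Q, hQ⟩ := hT.exists_le_sylow
    obtain ⟨g, hg⟩ := MulAction.exists_smul_eq G S Q
    have hTg : T ≤ cjS g (S : Subgroup G) := fun x hx => by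
      have hxQ : x ∈ (Q : Subgroup G) := hQ hx
      rw [← hg] at hxQ
      obtain ⟨y, hy, rfl⟩ := hxQ
      exact ⟨y, hy, rfl⟩
    have hgU : U.map (DistribSMul.toAddMonoidHom V g) ≤ L T := by
      refine hLle T _ ?_ ((noOff_smul g hU).mono hTg)
      rintro t ht _ ⟨w, hw, rfl⟩
      refine ⟨(g⁻¹ * t * g) • w, hinv _ (mem_cjS.1 (hTg ht)) w hw, ?_⟩
      show g • ((g⁻¹ * t * g) • w) = t • (g • w)
      rw [← mul_smul, ← mul_smul]
      congr 1
      group
    have hmem : ∀ (x : G) (v : V), v ∈ L T → x • v ∈ L T := fun x v hv =>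
      ((htopT ▸ Subgroup.mem_top x : x ∈ nst (L T)) v).2 hv
    have hLtop : L T = ⊤ := by
      rw [eq_top_iff, ← hgenU]
      refine gen_le (fun u hu => ?_) fun x w hw => hmem x w hw
      have := hmem g⁻¹ (g • u) (hgU ⟨u, hu, rfl⟩)
      rwa [inv_smul_smul] at this
    have := hLno T B hBT (hLtop ▸ hBq) (hLtop ▸ hBv)
    rw [hLtop, pstab_top_eq_bot hfaith, le_bot_iff] at this
    exact hBne this
  -- every 2-group above `B` lies in a unique maximal subgroup
  have hUM : ∀ T : Subgroup G, IsPGroup 2 T → B ≤ T →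
      ∃ M : Subgroup G, M ≠ ⊤ ∧ T ≤ M ∧ ∀ H : Subgroup G, T ≤ H → H ≠ ⊤ → H ≤ M := by
    suffices ∀ n : ℕ, ∀ T : Subgroup G, Nat.card G - Nat.card T = n → IsPGroup 2 T → B ≤ T →
        ∃ M : Subgroup G, M ≠ ⊤ ∧ T ≤ M ∧ ∀ H : Subgroup G, T ≤ H → H ≠ ⊤ → H ≤ M from
      fun T => this _ T rfl
    intro n
    induction n using Nat.strong_induction_on with
    | _ n ih =>
    intro T hn hT hBT
    set N := nst (G := G) (L T) with hN
    have hTN : T ≤ N := mem_nst_of_le (hLinv T)
    have hNtop : N ≠ ⊤ := htop T hT hBT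
    have step : ∀ T' : Subgroup G, IsPGroup 2 T' → T < T' → T' ≤ Subgroup.normalizer (T : Set G) →
        ∃ M : Subgroup G, M ≠ ⊤ ∧ T' ≤ M ∧ N ≤ M ∧ ∀ H : Subgroup G, T' ≤ H → H ≠ ⊤ → H ≤ M := by
      intro T' hT' hlt hT'n
      have hc : Nat.card T < Nat.card T' := lt_of_le_of_ne (Subgroup.card_le_of_le hlt.le)
        fun e => hlt.ne (Subgroup.eq_of_le_of_card_ge hlt.le e.ge)
      have := Subgroup.card_le_card_group T'
      obtain ⟨M, h1, h2, h3'⟩ := ih _ (by omega) T' rfl hT' (hBT.trans hlt.le)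
      exact ⟨M, h1, h2, h3' N (hT'n.trans (hnorm T)) hNtop, h3'⟩
    by_cases hmax : ∀ T' : Subgroup G, IsPGroup 2 T' → T ≤ T' → T' ≤ (⊤ : Subgroup G) → T' = T
    · exact ⟨N, hNtop, hTN, fun H hTH hH => hsub H T hH hTH hT fun T' h1 h2 _ =>
        hmax T' h1 h2 le_top⟩
    obtain ⟨T1, hT1, hlt1, _, hn1⟩ := exists_bigger le_top hmax
    obtain ⟨M, hMtop, hT1M, hNM, hMmax⟩ := step T1 hT1 hlt1 hn1
    refine ⟨M, hMtop, hlt1.le.trans hT1M, fun H hTH hH => ?_⟩
    by_cases hHmax : ∀ T' : Subgroup G, IsPGroup 2 T' → T ≤ T' → T' ≤ H → T' = T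
    · exact (hsub H T hH hTH hT hHmax).trans hNM
    obtain ⟨T2, hT2, hlt2, hT2H, hn2⟩ := exists_bigger hTH hHmax
    obtain ⟨M2, hM2top, -, hNM2, hM2max⟩ := step T2 hT2 hlt2 hn2
    exact (hM2max H hT2H hH).trans (hMmax M2 ((hn1.trans (hnorm T)).trans hNM2) hM2top)
  obtain ⟨M, hMtop, hBM, hover⟩ := hUM B hB2 le_rfl
  obtain ⟨MS, hMS, hSMS, hSover⟩ := hUM S S.isPGroup' hBS
  have hSM : (S : Subgroup G) ≤ M := hSMS.trans (hover MS (hBS.trans hSMS) hMS)
  set L0 := L (S : Subgroup G) with hL0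
  have hUL : U ≤ L0 := hLle _ U hinv hU
  have hML : M ≤ nst L0 :=
    hsub M S hMtop hSM S.isPGroup' fun T' hT' hle _ => S.is_maximal' hT' hle
  have hLP : L0 ≤ P := fun u hu b hb =>
    centralise hBq hBv le_top ((hLno _).mono hBS) hmin hb u hu
  have hcore : ∀ N : Subgroup G, N.Normal → N ≤ M → ∀ x ∈ (S : Subgroup G), x ∈ N → x ∈ R := by
    intro N hNn hNM x hxS hxN
    set T := (S : Subgroup G) ⊓ N with hT
    let T0 : Sylow 2 N :=
      { toSubgroup := T.subgroupOf N
        isPGroup' := (S.isPGroup'.to_le inf_le_left).comap_of_injective N.subtype N.subtype_injective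
        is_maximal' := fun {Q} hQ hle => by
          refine (Subgroup.eq_of_le_of_card_ge hle ?_).symm
          obtain ⟨Q', hQ'⟩ := (hQ.map N.subtype).exists_le_sylow
          obtain ⟨g, hg⟩ := MulAction.exists_smul_eq G S Q'
          have hsub' : Q.map N.subtype ≤ cjS g T := by
            rintro _ ⟨y, hy, rfl⟩
            have hyQ : (y : G) ∈ (Q' : Subgroup G) := hQ' ⟨y, hy, rfl⟩
            rw [← hg] at hyQ
            obtain ⟨z, hz, he⟩ := hyQ
            have he' : g * z * g⁻¹ = y := he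
            refine mem_cjS.2 ⟨?_, ?_⟩
            · show g⁻¹ * (y : G) * g ∈ (S : Subgroup G)
              rw [← he', show g⁻¹ * (g * z * g⁻¹) * g = z by group]
              exact hz
            · simpa using hNn.conj_mem y y.2 g⁻¹
          have h1 := Subgroup.card_le_of_le hsub'
          rw [Subgroup.card_map_of_injective N.subtype_injective,
            Subgroup.card_map_of_injective (MulAut.conj g).injective] at h1
          rwa [Nat.card_congr (Subgroup.subgroupOfEquivOfLe (inf_le_right : T ≤ N)).toEquiv] }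
    haveI := hNn
    have hmap : (T0 : Subgroup N).map N.subtype = T := by
      show (T.subgroupOf N).map N.subtype = T
      rw [Subgroup.subgroupOf_map_subtype, inf_eq_left.2 inf_le_right]
    have hfr := Sylow.normalizer_sup_eq_top T0
    rw [hmap] at hfr
    have hSn : (S : Subgroup G) ≤ Subgroup.normalizer (T : Set G) := by
      rw [Subgroup.le_normalizer_iff]
      exact fun s hs t ht =>
        ⟨(S : Subgroup G).mul_mem ((S : Subgroup G).mul_mem hs ht.1) ((S : Subgroup G).inv_mem hs),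
          hNn.conj_mem t ht.2 s⟩
    by_cases htopT : Subgroup.normalizer (T : Set G) = ⊤
    · exact Cfsg.Comp.le_pCore (Subgroup.normalizer_eq_top_iff.1 htopT)
        (S.isPGroup'.to_le inf_le_left) ⟨hxS, hxN⟩
    · exfalso
      apply hMtop
      rw [eq_top_iff, ← hfr]
      exact sup_le (hover _ (hBS.trans hSn) htopT) hNM
  have hNM : Subgroup.normalizer (M : Set G) ≤ M := by
    by_cases htopM : Subgroup.normalizer (M : Set G) = ⊤
    · exact absurd (fun b hb => hcore M (Subgroup.normalizer_eq_top_iff.1 htopM) le_rfl b (hBS hb)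
        (hBM hb)) hBR
    · exact hover _ (hBM.trans Subgroup.le_normalizer) htopM
  have hoverg : ∀ (g : G) (H : Subgroup G), cjS g B ≤ H → H ≠ ⊤ → H ≤ cjS g M := by
    intro g H hH hHtop x hx
    rw [mem_cjS]
    refine hover (cjS g⁻¹ H) (fun a ha => ?_) (fun e => hHtop ?_) ?_
    · rw [mem_cjS, inv_inv]
      exact hH ⟨a, ha, rfl⟩
    · rw [← cjS_one H, ← mul_inv_cancel g, cjS_mul, e, eq_top_iff]
      intro y _
      rw [mem_cjS]
      exact Subgroup.mem_top _
    · rw [mem_cjS]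
      simpa [mul_assoc] using hx
  have hnot : ∀ g : G, g ∉ M → ¬ cjS g B ≤ M := by
    intro g hg hle
    have h1 := hoverg g M hle hMtop
    have he : M = cjS g M := Subgroup.eq_of_le_of_card_ge h1
      (Subgroup.card_map_of_injective (MulAut.conj g).injective).le
    refine hg (hNM (Subgroup.mem_normalizer_iff.2 fun x => ?_))
    conv_rhs => rw [he, mem_cjS]
    simp [mul_assoc]
  have hgen2 : ∀ g : G, g ∉ M → B ⊔ cjS g B = ⊤ := fun g hg => by
    by_contra h
    exact hnot g hg (le_sup_right.trans (hover _ le_sup_left h))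
  have hinf : ∀ g : G, g ∉ M → ∀ v : V, v ∈ P → v ∈ fixV (V := V) (cjS g B) → v ∈ C := by
    intro g hg v hv hv' x _
    have hle : B ⊔ cjS g B ≤ MulAction.stabilizer G v := sup_le hv hv'
    rw [hgen2 g hg] at hle
    exact hle (Subgroup.mem_top x)
  obtain ⟨g₀, hg₀⟩ : ∃ g, g ∉ M := by
    by_contra h
    push Not at h
    exact hMtop (eq_top_iff.2 fun x _ => h x)
  have hquadg : ∀ (g : G), ∀ y ∈ cjS g B, ∀ v : V, y • v - v ∈ fixV (V := V) (cjS g B) := by
    rintro g _ ⟨b, hb, rfl⟩ v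
    rw [mem_fixV_cjS]
    show g⁻¹ • ((g * b * g⁻¹) • v - v) ∈ P
    rw [smul_sub, ← mul_smul, ← mul_assoc, ← mul_assoc, inv_mul_cancel, one_mul, mul_smul]
    exact hquad b hb _
  have hcardP : ∀ g : G, Nat.card (fixV (cjS g B) : AddSubgroup V) = Nat.card P := fun g =>
    Nat.card_congr
      { toFun := fun v => ⟨g⁻¹ • v.1, mem_fixV_cjS.1 v.2⟩
        invFun := fun v => ⟨g • v.1, mem_fixV_cjS.2 (by rw [inv_smul_smul]; exact v.2)⟩
        left_inv := fun v => Subtype.ext (smul_inv_smul _ _)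
        right_inv := fun v => Subtype.ext (inv_smul_smul _ _) }
  have hsum : P ⊔ fixV (cjS g₀ B) = ⊤ := by
    rw [eq_top_iff, ← hgenU]
    refine gen_le ((hUL.trans hLP).trans le_sup_left) fun x w hw => ?_
    have hall : B ⊔ cjS g₀ B ≤ nst (P ⊔ fixV (cjS g₀ B)) := sup_le
      (mem_nst_of_le fun b hb v hv => by
        have := AddSubgroup.add_mem _
          (AddSubgroup.mem_sup_left (T := fixV (cjS g₀ B)) (hquad b hb v)) hv
        rwa [sub_add_cancel] at this)
      (mem_nst_of_le fun b hb v hv => by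
        have := AddSubgroup.add_mem _ (AddSubgroup.mem_sup_right (S := P) (hquadg g₀ b hb v)) hv
        rwa [sub_add_cancel] at this)
    rw [hgen2 g₀ hg₀] at hall
    exact (hall (Subgroup.mem_top x) w).2 hw
  have hinfC : P ⊓ fixV (cjS g₀ B) = C := le_antisymm (fun v hv => hinf g₀ hg₀ v hv.1 hv.2)
    fun v hv => ⟨fun b _ => smul_fixV_top hv b, fun b _ => smul_fixV_top hv b⟩
  -- the radical part of `B`
  set B0 := B ⊓ R with hB0
  have hB0C : ∀ b ∈ B0, ∀ v : V, b • v - v ∈ C := by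
    intro b hb
    let Wb : AddSubgroup V :=
      C.comap (DistribSMul.toAddMonoidHom V b - AddMonoidHom.id V)
    have hWb : ∀ {v : V}, v ∈ Wb ↔ b • v - v ∈ C := fun {_} => Iff.rfl
    have hle : gen G U ≤ Wb := by
      refine iSup_le fun h => ?_
      rintro _ ⟨u, hu, rfl⟩
      rw [hWb]
      show b • (h • u) - h • u ∈ C
      by_cases hh : h ∈ M
      · have hl : h • u ∈ L0 := (hML hh u).2 (hUL hu)
        rw [hLP hl b hb.1, sub_self]
        exact C.zero_mem
      · refine hinf h hh _ (hquad b hb.1 _) (mem_fixV_cjS.2 ?_)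
        have hs : h⁻¹ * b * h ∈ (S : Subgroup G) := hRS (hRconj h b hb.2)
        rw [smul_sub, inv_smul_smul]
        have he : h⁻¹ • (b • (h • u)) = (h⁻¹ * b * h) • u := by rw [mul_smul, mul_smul]
        rw [he]
        exact P.sub_mem (hLP (hLinv _ _ hs u (hUL hu))) (hLP (hUL hu))
    intro v
    exact hWb.1 (hle (hgenU.symm ▸ AddSubgroup.mem_top v))
  set K : Subgroup G := stabU C with hK
  have hKd : ∀ k ∈ K, ∀ v : V, k • v - v ∈ C := fun k hk => hk.2
  haveI hKn : K.Normal := ⟨fun k hk g => ⟨fun c hc => smul_fixV_top hc _, fun v => by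
    have h := hk.2 (g⁻¹ • v)
    rw [← smul_fixV_top h g] at h
    rwa [smul_sub, smul_inv_smul, ← mul_smul, ← mul_smul] at h⟩⟩
  have hK2 : IsPGroup 2 K := card_eq_two_pow fun k hk => stabU_sq hV hfaith hk
  have hKR : K ≤ R := Cfsg.Comp.le_pCore hKn hK2
  have hstrict : ∀ E : Subgroup G, E ≤ K → E ≠ ⊥ →
      Nat.card E * Nat.card (fixV E : AddSubgroup V) < Nat.card V := by
    intro E hE hEne
    by_contra hle
    have := hRno E (hE.trans hKR) (fun b hb c _ v _ => smul_fixV_top (hKd b (hE hb) v) c)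
      ((viol_top_iff hfaith E).2 (not_lt.1 hle))
    rw [pstab_top_eq_bot hfaith, le_bot_iff] at this
    exact hEne this
  have hB0K : B0 ≤ K := fun b hb => ⟨fun c hc => smul_fixV_top hc b, hB0C b hb⟩
  have hB0sq : Nat.card B0 * Nat.card B0 ≤ Nat.card K := by
    rw [← Nat.card_prod]
    refine Nat.card_le_card_of_injective (fun x : B0 × B0 => (⟨(x.1 : G) * (g₀ * x.2 * g₀⁻¹),
      K.mul_mem (hB0K x.1.2) (hKn.conj_mem _ (hB0K x.2.2) g₀)⟩ : K)) ?_
    intro x y he
    have he' : (x.1 : G) * (g₀ * x.2 * g₀⁻¹) = (y.1 : G) * (g₀ * y.2 * g₀⁻¹) := congrArg Subtype.val he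
    have hd : (y.1 : G)⁻¹ * x.1 = g₀ * (y.2 * (x.2 : G)⁻¹) * g₀⁻¹ := by
      rw [inv_mul_eq_iff_eq_mul, eq_comm]
      calc (y.1 : G) * (g₀ * (y.2 * (x.2 : G)⁻¹) * g₀⁻¹)
          = (y.1 : G) * (g₀ * y.2 * g₀⁻¹) * (g₀ * x.2 * g₀⁻¹)⁻¹ := by group
        _ = x.1 := by rw [← he']; group
    have h1 : (y.1 : G)⁻¹ * x.1 = 1 := by
      refine hfaith _ fun v => ?_
      have hle : P ⊔ fixV (cjS g₀ B) ≤ fixV (Subgroup.zpowers ((y.1 : G)⁻¹ * x.1)) := by
        refine sup_le (fun p hp c hc => ?_) (fun p hp c hc => ?_)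
        · exact hp c ((Subgroup.zpowers_le.2 (B.mul_mem (B.inv_mem y.1.2.1) x.1.2.1)) hc)
        · refine hp c ((Subgroup.zpowers_le.2 ?_) hc)
          rw [hd]
          exact ⟨_, B.mul_mem y.2.2.1 (B.inv_mem x.2.2.1), rfl⟩
      rw [hsum] at hle
      exact hle (AddSubgroup.mem_top v) _ (Subgroup.mem_zpowers _)
    have e1 : x.1 = y.1 := Subtype.ext (inv_mul_eq_one.1 h1).symm
    have e2 : x.2 = y.2 := by
      rw [h1, eq_comm, conj_eq_one_iff, mul_inv_eq_one] at hd
      exact Subtype.ext hd.symm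
    exact Prod.ext e1 e2
  -- a nontrivial composition factor
  obtain ⟨W1, ⟨hW1i, hCW1, hW1nt⟩, hW1max⟩ := (Set.toFinite {W : AddSubgroup V |
      (∀ g : G, ∀ w ∈ W, g • w ∈ W) ∧ C ≤ W ∧ ∃ (g : G) (v : V), g • v - v ∉ W}).exists_maximal
    ⟨C, fun g w hw => by rw [smul_fixV_top hw g]; exact hw, le_rfl, by
      by_contra h
      push Not at h
      exact hBR fun b _ => hKR ⟨fun c hc => smul_fixV_top hc b, h b⟩⟩
  obtain ⟨W2, ⟨hW2i, hW12⟩, hW2min⟩ := (Set.toFinite {W : AddSubgroup V |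
      (∀ g : G, ∀ w ∈ W, g • w ∈ W) ∧ W1 < W}).exists_minimal
    ⟨⊤, fun _ _ _ => AddSubgroup.mem_top _, lt_top_iff_ne_top.2 fun e => by
      obtain ⟨g, v, hgv⟩ := hW1nt
      exact hgv (e ▸ AddSubgroup.mem_top _)⟩
  have hsimp : ∀ W : AddSubgroup V, (∀ g : G, ∀ w ∈ W, g • w ∈ W) → W1 ≤ W → W ≤ W2 →
      W = W1 ∨ W = W2 := by
    intro W hWi h1 h2
    rcases h1.eq_or_lt with h | h
    · exact Or.inl h.symm
    · exact Or.inr (le_antisymm h2 (hW2min ⟨hWi, h⟩ h2))
  have hW2triv : ∀ (g : G) (v : V), g • v - v ∈ W2 := by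
    by_contra h
    push Not at h
    exact hW12.not_ge (hW1max ⟨hW2i, hCW1.trans hW12.le, h⟩ hW12.le)
  have hnt : ∃ g : G, ∃ w ∈ W2, g • w - w ∉ W1 := by
    by_contra h
    push Not at h
    let δ : G →* Multiplicative (V → V ⧸ W1) :=
      { toFun := fun x => Multiplicative.ofAdd fun v => (QuotientAddGroup.mk (x • v - v) : V ⧸ W1)
        map_one' := by
          rw [← ofAdd_zero]
          congr 1
          funext v
          rw [one_smul, sub_self]
          rfl
        map_mul' := fun x y => by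
          rw [← ofAdd_add]
          congr 1
          funext v
          rw [Pi.add_apply, ← QuotientAddGroup.mk_add, QuotientAddGroup.eq_iff_sub_mem]
          have h' := h x _ (hW2triv y v)
          rw [smul_sub, ← mul_smul] at h'
          convert h' using 1
          abel }
    have hB : ∀ b ∈ B, δ b = 1 := by
      intro b hb
      have hcj : δ (g₀ * b * g₀⁻¹) = δ b := by
        rw [map_mul, map_mul, map_inv, mul_comm (δ g₀), mul_assoc, mul_inv_cancel, mul_one]
      refine Multiplicative.toAdd.injective (funext fun v => ?_)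
      obtain ⟨p, hp, q, hq, rfl⟩ := AddSubgroup.mem_sup.1 (hsum.symm ▸ AddSubgroup.mem_top v)
      show (QuotientAddGroup.mk (b • (p + q) - (p + q)) : V ⧸ W1) = 0
      have hq' : (g₀ * b * g₀⁻¹) • q = q := hq _ ⟨b, hb, rfl⟩
      have h1 := congrFun (congrArg Multiplicative.toAdd hcj) q
      have h2 : (QuotientAddGroup.mk ((g₀ * b * g₀⁻¹) • q - q) : V ⧸ W1) =
          QuotientAddGroup.mk (b • q - q) := h1
      rw [hq', sub_self, QuotientAddGroup.mk_zero] at h2
      rw [smul_add, hp b hb, add_sub_add_left_eq_sub, ← h2]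
    have hker : δ.ker = ⊤ := by
      rw [eq_top_iff, ← hgen2 g₀ hg₀]
      refine sup_le (fun b hb => hB b hb) ?_
      rintro _ ⟨b, hb, rfl⟩
      exact δ.normal_ker.conj_mem b (hB b hb) g₀
    obtain ⟨g, v, hgv⟩ := hW1nt
    have hg' : g ∈ δ.ker := hker ▸ Subgroup.mem_top g
    exact hgv ((QuotientAddGroup.eq_zero_iff _).1 (congrFun (congrArg Multiplicative.toAdd hg') v))
  -- the action on `V ⧸ W1`
  letI act : DistribMulAction G (V ⧸ W1) :=
    { smul := fun g q => QuotientAddGroup.map W1 W1 (DistribSMul.toAddMonoidHom V g)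
        (fun z hz => hW1i g z hz) q
      one_smul := fun q => by
        induction q using QuotientAddGroup.induction_on with
        | H x => exact congrArg QuotientAddGroup.mk (one_smul G x)
      mul_smul := fun g h q => by
        induction q using QuotientAddGroup.induction_on with
        | H x => exact congrArg QuotientAddGroup.mk (mul_smul g h x)
      smul_zero := fun g => congrArg QuotientAddGroup.mk (smul_zero g)
      smul_add := fun g q q' => map_add _ q q' }
  have hmk : ∀ (g : G) (x : V), g • (QuotientAddGroup.mk x : V ⧸ W1) = QuotientAddGroup.mk (g • x) :=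
    fun _ _ => rfl
  have hVq : ∀ q : V ⧸ W1, q + q = 0 := fun q => by
    induction q using QuotientAddGroup.induction_on with
    | H x => rw [← QuotientAddGroup.mk_add, hV, QuotientAddGroup.mk_zero]
  set N : AddSubgroup (V ⧸ W1) := W2.map (QuotientAddGroup.mk' W1) with hN
  have hNinv : ∀ g : G, ∀ n ∈ N, g • n ∈ N := by
    rintro g _ ⟨w, hw, rfl⟩
    exact ⟨g • w, hW2i g w hw, rfl⟩
  have hquadq : ∀ (g : G), ∀ y ∈ cjS g B, ∀ q : V ⧸ W1,
      y • q - q ∈ fixV (V := V ⧸ W1) (cjS g B) := by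
    intro g y hy q c hc
    induction q using QuotientAddGroup.induction_on with
    | H x =>
      rw [hmk, ← QuotientAddGroup.mk_sub, hmk, hquadg g y hy x c hc]
  have hcomap : ∀ Z : AddSubgroup (V ⧸ W1), Z ≤ N → (∀ g : G, ∀ z ∈ Z, g • z ∈ Z) → Z = ⊥ ∨ Z = N := by
    intro Z hZN hZi
    rcases hsimp (Z.comap (QuotientAddGroup.mk' W1))
      (fun g w hw => hZi g _ hw)
      (fun w hw => by
        show QuotientAddGroup.mk w ∈ Z
        rw [(QuotientAddGroup.eq_zero_iff w).2 hw]
        exact Z.zero_mem)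
      (fun w hw => by
        obtain ⟨w', hw', he⟩ := hZN hw
        have h' : w - w' ∈ W1 := (QuotientAddGroup.eq_iff_sub_mem).1 he.symm
        simpa using W2.add_mem (hW12.le h') hw') with h | h
    · left
      rw [← AddSubgroup.map_comap_eq_self_of_surjective (QuotientAddGroup.mk'_surjective W1) Z, h,
        QuotientAddGroup.map_mk'_self]
    · right
      rw [← AddSubgroup.map_comap_eq_self_of_surjective (QuotientAddGroup.mk'_surjective W1) Z, h]
  have hNne : N ≠ ⊥ := fun e => by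
    obtain ⟨w, hw, hw1⟩ := SetLike.exists_of_lt hW12
    have : (QuotientAddGroup.mk w : V ⧸ W1) ∈ N := ⟨w, hw, rfl⟩
    rw [e, AddSubgroup.mem_bot] at this
    exact hw1 ((QuotientAddGroup.eq_zero_iff w).1 this)
  have hfix0 : ∀ n ∈ N, (∀ x : G, x • n = n) → n = 0 := by
    intro n hn hfixn
    rcases hcomap (N ⊓ fixV (⊤ : Subgroup G)) inf_le_left (fun g z hz => by
        rw [hz.2 g (Subgroup.mem_top g)]
        exact hz) with h | h
    · exact (AddSubgroup.mem_bot).1 (h ▸ (⟨hn, fun x _ => hfixn x⟩ : n ∈ N ⊓ fixV (⊤ : Subgroup G)))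
    · exfalso
      obtain ⟨g, w, hw, hgw⟩ := hnt
      have hmem : (QuotientAddGroup.mk w : V ⧸ W1) ∈ N ⊓ fixV (⊤ : Subgroup G) := by
        rw [h]
        exact ⟨w, hw, rfl⟩
      have := hmem.2 g (Subgroup.mem_top g)
      rw [hmk, QuotientAddGroup.eq_iff_sub_mem] at this
      exact hgw this
  let F : G → AddSubgroup (V ⧸ W1) := fun g => N ⊓ fixV (cjS g B)
  set F1 : AddSubgroup (V ⧸ W1) := N ⊓ fixV B with hF1
  have hFg : ∀ (g : G) (n : V ⧸ W1), n ∈ F g ↔ g⁻¹ • n ∈ F1 := fun g n =>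
    ⟨fun h => ⟨hNinv _ _ h.1, mem_fixV_cjS.1 h.2⟩, fun h => ⟨by
      simpa using hNinv g _ h.1, mem_fixV_cjS.2 h.2⟩⟩
  have hFcard : ∀ g, Nat.card (F g) = Nat.card F1 := fun g => Nat.card_congr
    { toFun := fun v => ⟨g⁻¹ • v.1, (hFg g v).1 v.2⟩
      invFun := fun v => ⟨g • v.1, (hFg g _).2 (by rw [inv_smul_smul]; exact v.2)⟩
      left_inv := fun v => Subtype.ext (smul_inv_smul _ _)
      right_inv := fun v => Subtype.ext (inv_smul_smul _ _) }
  have hF1one : F 1 = F1 := by simp only [F, cjS_one, hF1]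
  have hquadN : ∀ b ∈ B, ∀ n ∈ N, b • n - n ∈ F1 := fun b hb n hn =>
    ⟨N.sub_mem (hNinv b n hn) hn, by
      have := hquadq 1 b (by rw [cjS_one]; exact hb) n
      rwa [cjS_one] at this⟩
  have hF1ne : F1 ≠ ⊥ := by
    intro e
    refine hNne (eq_bot_iff.2 fun n hn => e ▸ (⟨hn, fun b hb => ?_⟩ : n ∈ F1))
    have := hquadN b hb n hn
    rw [e, AddSubgroup.mem_bot, sub_eq_zero] at this
    exact this
  have hFinf : ∀ g : G, g ∉ M → ∀ n, n ∈ F1 → n ∈ F g → n = 0 := by
    intro g hg n h1 h2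
    refine hfix0 n h1.1 fun x => ?_
    have hle : B ⊔ cjS g B ≤ MulAction.stabilizer G n := sup_le h1.2 h2.2
    rw [hgen2 g hg] at hle
    exact hle (Subgroup.mem_top x)
  have hFsup : ∀ g : G, g ∉ M → F1 ⊔ F g = N := by
    intro g hg
    have hle : F1 ⊔ F g ≤ N := sup_le inf_le_left inf_le_left
    refine (hcomap _ hle fun x z hz => ?_).resolve_left fun e =>
      hF1ne (le_bot_iff.1 (e ▸ le_sup_left))
    have hall : B ⊔ cjS g B ≤ nst (F1 ⊔ F g) := sup_le
      (mem_nst_of_le fun b hb v hv => by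
        have := AddSubgroup.add_mem _
          (AddSubgroup.mem_sup_left (T := F g) (hquadN b hb v (hle hv))) hv
        rwa [sub_add_cancel] at this)
      (mem_nst_of_le fun b hb v hv => by
        have hb' : b • v - v ∈ F g := ⟨N.sub_mem (hNinv b v (hle hv)) (hle hv), hquadq g b hb v⟩
        have := AddSubgroup.add_mem _ (AddSubgroup.mem_sup_right (S := F1) hb') hv
        rwa [sub_add_cancel] at this)
    rw [hgen2 g hg] at hall
    exact (hall (Subgroup.mem_top x) z).2 hz
  have hkey : ∀ a ∈ B, a ∉ R → ∀ g : G, g ∉ M → ∀ w ∈ F g, a • w = w → w = 0 := by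
    intro a ha haR g hg w hw haw
    by_contra hw0
    have hstep : ∀ h : G, ∀ f ∈ F h, f ≠ 0 → a • f = f → a ∈ cjS h M := by
      intro h f hf hf0 haf
      exact hoverg h (MulAction.stabilizer G f) hf.2 (fun e => hf0 (hfix0 f hf.1 fun x =>
        (e ▸ Subgroup.mem_top x : x ∈ MulAction.stabilizer G f))) haf
    refine haR (hcore M.normalCore inferInstance M.normalCore_le a (hBS ha) ?_)
    intro x
    suffices hx : a ∈ cjS x⁻¹ M by
      rw [mem_cjS, inv_inv] at hx
      exact hx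
    by_cases hxM : x⁻¹ ∈ M
    · rw [mem_cjS]
      exact M.mul_mem (M.mul_mem (M.inv_mem hxM) (hBM ha)) hxM
    · have hmem : w ∈ F1 ⊔ F x⁻¹ := by
        rw [hFsup _ hxM]
        exact hw.1
      obtain ⟨f, hf, f', hf', rfl⟩ := AddSubgroup.mem_sup.1 hmem
      refine hstep _ f' hf' (fun e => hw0 ?_) ?_
      · rw [e, add_zero] at hw ⊢
        exact hFinf g hg f hf hw
      · rw [smul_add, hf.2 a ha] at haw
        exact add_left_cancel haw
  have hB0N : ∀ b ∈ B0, ∀ q : V ⧸ W1, b • q = q := by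
    intro b hb q
    induction q using QuotientAddGroup.induction_on with
    | H x =>
      rw [hmk, QuotientAddGroup.eq_iff_sub_mem]
      exact hCW1 (hB0C b hb x)
  -- `B` is small
  have hBsmall : Nat.card B < Nat.card B0 * Nat.card F1 := by
    have hφ : ∀ g : G, g ∉ M → ∀ w ∈ F g, w ≠ 0 → ∃ φ : B →* Multiplicative F1,
        (∀ b : B, (((φ b).toAdd : F1) : V ⧸ W1) = (b : G) • w - w) ∧
          Nat.card B = Nat.card φ.range * Nat.card B0 := by
      intro g hg w hw hw0
      let φ : B →* Multiplicative F1 :=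
        { toFun := fun b => Multiplicative.ofAdd ⟨(b : G) • w - w, hquadN b b.2 w hw.1⟩
          map_one' := by
            rw [← ofAdd_zero]
            exact congrArg _ (Subtype.ext (by simp))
          map_mul' := fun b c => by
            rw [← ofAdd_add]
            refine congrArg _ (Subtype.ext ?_)
            show ((b : G) * c) • w - w = ((b : G) • w - w) + ((c : G) • w - w)
            have h := (hquadN c c.2 w hw.1).2 b b.2
            rw [smul_sub, ← mul_smul, sub_eq_iff_eq_add] at h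
            rw [h]
            abel }
      refine ⟨φ, fun b => rfl, ?_⟩
      rw [Subgroup.card_eq_card_quotient_mul_card_subgroup φ.ker,
        Nat.card_congr (QuotientGroup.quotientKerEquivRange φ).toEquiv]
      congr 1
      have hk : φ.ker = B0.subgroupOf B := by
        ext b
        constructor
        · intro hb
          have h0 : (b : G) • w - w = 0 :=
            congrArg (fun z => ((Multiplicative.toAdd z : F1) : V ⧸ W1)) (MonoidHom.mem_ker.1 hb)
          refine ⟨b.2, ?_⟩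
          by_contra hbR
          exact hw0 (hkey b b.2 hbR g hg w hw (sub_eq_zero.1 h0))
        · intro hb
          refine MonoidHom.mem_ker.2 (Multiplicative.toAdd.injective (Subtype.ext ?_))
          exact sub_eq_zero.2 (hB0N b hb w)
      rw [hk]
      exact Nat.card_congr (Subgroup.subgroupOfEquivOfLe (inf_le_left : B0 ≤ B)).toEquiv
    by_contra hcard
    rw [not_lt] at hcard
    have honto : ∀ g : G, g ∉ M → ∀ w ∈ F g, w ≠ 0 → ∀ z ∈ F1, ∃ b ∈ B, b • w - w = z := by
      intro g hg w hw hw0 z hz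
      obtain ⟨φ, hφv, hφc⟩ := hφ g hg w hw hw0
      have hge : Nat.card (Multiplicative F1) ≤ Nat.card φ.range := by
        rw [hφc, Nat.mul_comm (Nat.card φ.range)] at hcard
        rw [Nat.card_congr Multiplicative.toAdd]
        exact Nat.le_of_mul_le_mul_left hcard Nat.card_pos
      have htop' : φ.range = ⊤ := Subgroup.eq_top_of_le_card _ hge
      obtain ⟨b, hb⟩ : Multiplicative.ofAdd (⟨z, hz⟩ : F1) ∈ φ.range := htop' ▸ Subgroup.mem_top _
      refine ⟨b, b.2, ?_⟩
      rw [← hφv b, hb]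
      rfl
    obtain ⟨w, hw, hw0⟩ : ∃ w ∈ F g₀, w ≠ 0 := by
      by_contra h
      push Not at h
      refine hF1ne (AddSubgroup.eq_bot_of_card_le _ ?_)
      rw [← hFcard g₀, show F g₀ = ⊥ from eq_bot_iff.2 fun x hx => (AddSubgroup.mem_bot).2 (h x hx),
        AddSubgroup.card_bot]
    obtain ⟨z, hz, hz0⟩ : ∃ z ∈ F1, z ≠ 0 := by
      by_contra h
      push Not at h
      exact hF1ne (eq_bot_iff.2 fun x hx => (AddSubgroup.mem_bot).2 (h x hx))
    have hginv : g₀⁻¹ ∉ M := fun h => hg₀ (by simpa using M.inv_mem h)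
    obtain ⟨a, ha, haw⟩ := honto g₀ hg₀ w hw hw0 z hz
    obtain ⟨b, hb, hbz⟩ := honto g₀⁻¹ hginv (g₀⁻¹ • z) ((hFg _ _).2 (by
      rw [inv_inv, smul_inv_smul]; exact hz))
      (fun e => hz0 (by simpa using congrArg (fun q => g₀ • q) e)) (g₀⁻¹ • w) ((hFg g₀ w).1 hw)
    have hbmem : g₀ * b * g₀⁻¹ ∈ cjS g₀ B := ⟨b, hb, rfl⟩
    have hbu : (g₀ * b * g₀⁻¹) • z = z + w := by
      have := congrArg (fun q => g₀ • q) hbz
      simp only [smul_sub, smul_inv_smul] at this
      rw [mul_smul, mul_smul, ← sub_eq_iff_eq_add'.1 this]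
    have hBsq : ∀ x ∈ B, x * x = 1 := fun x hx => hfaith _ fun v => by
      have h := hquad x hx v x hx
      rw [smul_sub, sub_eq_iff_eq_add] at h
      rw [mul_smul, h, sub_add_eq_add_sub, hV, zero_sub, neg_eq_of_add_eq_zero_left (hV v)]
    refine three_of_chain hVq h3 (a := a) (b := g₀ * b * g₀⁻¹) (hBsq a ha) ?_ hz0 (hz.2 a ha)
      (sub_eq_iff_eq_add'.1 haw) (hw.2 _ hbmem) hbu (isOfFinOrder_of_finite _)
    rw [show g₀ * b * g₀⁻¹ * (g₀ * b * g₀⁻¹) = g₀ * (b * b) * g₀⁻¹ by group, hBsq b hb]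
    group
  -- the count
  have hcount := count hV hfaith hKd hstrict hCW1 hW12 hW1i hW2i hsimp
  have hNW : Nat.card W2 = Nat.card N * Nat.card W1 := by
    let π : W2 →+ V ⧸ W1 := (QuotientAddGroup.mk' W1).comp W2.subtype
    rw [AddSubgroup.card_eq_card_quotient_mul_card_addSubgroup π.ker,
      Nat.card_congr (QuotientAddGroup.quotientKerEquivRange π).toEquiv]
    congr 1
    · rw [hN, AddMonoidHom.range_comp, AddSubgroup.range_subtype]
    · exact Nat.card_congr
        { toFun := fun w => ⟨w.1.1, (QuotientAddGroup.eq_zero_iff _).1 w.2⟩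
          invFun := fun w => ⟨⟨w.1, hW12.le w.2⟩, (QuotientAddGroup.eq_zero_iff _).2 w.2⟩
          left_inv := fun _ => rfl
          right_inv := fun _ => rfl }
  have hNF : Nat.card N = Nat.card F1 * Nat.card F1 := by
    have h := card_sup_mul_card_inf F1 (F g₀)
    rw [hFsup g₀ hg₀, hFcard g₀] at h
    have hi : F1 ⊓ F g₀ = ⊥ := eq_bot_iff.2 fun x hx => (AddSubgroup.mem_bot).2 (hFinf g₀ hg₀ x hx.1 hx.2)
    rwa [hi, AddSubgroup.card_bot, mul_one] at h
  have hPP := card_sup_mul_card_inf P (fixV (cjS g₀ B))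
  rw [hsum, hinfC, hcardP g₀, AddSubgroup.card_top] at hPP
  rw [hNW, hNF] at hcount
  have hW1pos : 0 < Nat.card W1 := Nat.card_pos
  have hcount' : Nat.card C * Nat.card K * (Nat.card F1 * Nat.card F1) ≤ Nat.card V := by
    refine Nat.le_of_mul_le_mul_right ?_ hW1pos
    rw [Nat.mul_assoc (Nat.card C * Nat.card K)]
    exact hcount
  set c := Nat.card C
  set bb := Nat.card B
  set b0 := Nat.card B0
  set f := Nat.card F1
  set p := Nat.card P
  have hc : 0 < c := Nat.card_pos
  have hp0 : 0 < p := Nat.card_pos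
  have hsq : (c * bb) * (c * bb) < p * p := by
    calc (c * bb) * (c * bb) < (c * (b0 * f)) * (c * (b0 * f)) :=
          Nat.mul_self_lt_mul_self (Nat.mul_lt_mul_of_pos_left hBsmall hc)
      _ = c * ((c * (b0 * b0)) * (f * f)) := by ring
      _ ≤ c * ((c * Nat.card K) * (f * f)) :=
          Nat.mul_le_mul_left _ (Nat.mul_le_mul_right _ (Nat.mul_le_mul_left _ hB0sq))
      _ ≤ c * Nat.card V := Nat.mul_le_mul_left _ hcount'
      _ = p * p := by rw [Nat.mul_comm c, hPP]
  have hle : p ≤ c * bb := by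
    refine Nat.le_of_mul_le_mul_right ?_ hp0
    calc p * p = Nat.card V * c := hPP.symm
      _ ≤ bb * p * c := Nat.mul_le_mul_right _ hvB
      _ = c * bb * p := by ring
  exact absurd (Nat.mul_le_mul hle hle) (not_le.2 hsq)

/-- The closure theorem. -/
theorem closure_aux : ∀ n : ℕ, ∀ (G : Type u) [Group G] [Finite G] (V : Type v) [AddCommGroup V]
    [Finite V] [DistribMulAction G V], Nat.card G = n → (∀ v : V, v + v = 0) →
    ¬ Cfsg.Involves (Equiv.Perm (Fin 3)) G → ∀ (S : Sylow 2 G) (U : AddSubgroup V),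
      (∀ s ∈ (S : Subgroup G), ∀ u ∈ U, s • u ∈ U) → NoOff (S : Subgroup G) U →
        NoOff (S : Subgroup G) (gen G U) := by
  intro n
  induction n using Nat.strong_induction_on with
  | _ n ih =>
  intro G _ _ V _ _ _ hn hV hfree S U hinv hU
  classical
  haveI : Fact (Nat.Prime 2) := ⟨Nat.prime_two⟩
  set V0 := gen G U with hV0
  let N : Subgroup G :=
    { carrier := {g | ∀ v ∈ V0, g • v = v}
      one_mem' := fun v _ => one_smul G v
      mul_mem' := fun hg hh v hv => by rw [mul_smul, hh v hv, hg v hv]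
      inv_mem' := fun hg v hv => by rw [inv_smul_eq_iff, hg v hv] }
  haveI : N.Normal := ⟨fun k hk g v hv => by
    rw [mul_smul, mul_smul, hk _ (smul_mem_gen g⁻¹ hv), smul_inv_smul]⟩
  let σ : G →* AddMonoid.End V0 :=
    { toFun := fun g =>
        ((DistribSMul.toAddMonoidHom V g).comp V0.subtype).codRestrict V0 fun v => smul_mem_gen g v.2
      map_one' := AddMonoidHom.ext fun v => Subtype.ext (one_smul G v.1)
      map_mul' := fun g h => AddMonoidHom.ext fun v => Subtype.ext (mul_smul g h v.1) }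
  let τ : G ⧸ N →* AddMonoid.End V0 := QuotientGroup.lift N σ fun g hg =>
    AddMonoidHom.ext fun v => Subtype.ext (hg v.1 v.2)
  letI act : DistribMulAction (G ⧸ N) V0 :=
    { smul := fun q v => τ q v
      one_smul := fun v => DFunLike.congr_fun (map_one τ) v
      mul_smul := fun q q' v => DFunLike.congr_fun (map_mul τ q q') v
      smul_zero := fun q => map_zero (τ q)
      smul_add := fun q => map_add (τ q) }
  have heq : ∀ (g : G) (w : V0), V0.subtype (QuotientGroup.mk' N g • w) = g • V0.subtype w :=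
    fun _ _ => rfl
  have hfaith : ∀ q : G ⧸ N, (∀ v : V0, q • v = v) → q = 1 := by
    intro q hq
    obtain ⟨g, rfl⟩ := QuotientGroup.mk'_surjective N q
    exact (QuotientGroup.eq_one_iff g).2 fun v hv =>
      (heq g ⟨v, hv⟩).symm.trans (congrArg Subtype.val (hq ⟨v, hv⟩))
  have hVf : ∀ v : V0, v + v = 0 := fun v => Subtype.ext (hV v.1)
  have hfree' : ¬ Cfsg.Involves (Equiv.Perm (Fin 3)) (G ⧸ N) := fun h =>
    hfree (H74.JA.involves_quotient h)
  let S' : Sylow 2 (G ⧸ N) := S.mapSurjective (QuotientGroup.mk'_surjective N)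
  have hS' : (S' : Subgroup (G ⧸ N)) = (S : Subgroup G).map (QuotientGroup.mk' N) := rfl
  set U' : AddSubgroup V0 := U.comap V0.subtype with hU'
  have hUmap : U'.map V0.subtype = U := by
    refine le_antisymm (AddSubgroup.map_comap_le _ _) fun u hu => ?_
    exact ⟨⟨u, le_gen U hu⟩, hu, rfl⟩
  have hinv' : ∀ s ∈ (S' : Subgroup (G ⧸ N)), ∀ u ∈ U', s • u ∈ U' := by
    rintro _ ⟨s, hs, rfl⟩ u hu
    show V0.subtype (QuotientGroup.mk' N s • u) ∈ U
    rw [heq]
    exact hinv s hs _ hu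
  have hno' : NoOff (S' : Subgroup (G ⧸ N)) U' :=
    noOff_to_map (QuotientGroup.mk' N) V0.subtype V0.subtype_injective heq U' hS'.le (hUmap.symm ▸ hU)
  have hgen' : gen (G ⧸ N) U' = ⊤ := by
    rw [eq_top_iff]
    intro v _
    have hle : V0 ≤ (gen (G ⧸ N) U').map V0.subtype := by
      refine gen_le (fun u hu => ⟨⟨u, le_gen U hu⟩, le_gen U' hu, rfl⟩) ?_
      rintro g _ ⟨w, hw, rfl⟩
      exact ⟨QuotientGroup.mk' N g • w, smul_mem_gen _ hw, heq g w⟩
    obtain ⟨w, hw, he⟩ := hle v.2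
    exact (Subtype.ext he : w = v) ▸ hw
  have hsub : SubClosed (G ⧸ N) V0 := by
    intro H T hH hTH hT hmax W hWinv hWno
    have hlt : Nat.card H < n := by
      have h1 : Nat.card H < Nat.card (G ⧸ N) := lt_of_le_of_ne (Subgroup.card_le_card_group H)
        fun e => hH (Subgroup.eq_top_of_card_eq H e)
      have h2 : Nat.card (G ⧸ N) ≤ Nat.card G :=
        Nat.card_le_card_of_surjective _ (QuotientGroup.mk'_surjective N)
      omega
    let T0 : Sylow 2 H :=
      { toSubgroup := T.subgroupOf H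
        isPGroup' := hT.comap_of_injective H.subtype H.subtype_injective
        is_maximal' := fun {Q} hQ hle => by
          have h := hmax (Q.map H.subtype) (hQ.map _)
            (fun t ht => ⟨⟨t, hTH ht⟩, hle (show (⟨t, hTH ht⟩ : H) ∈ T.subgroupOf H from ht), rfl⟩)
            (Subgroup.map_subtype_le _)
          refine le_antisymm (fun q hq => ?_) hle
          show (q : G ⧸ N) ∈ T
          rw [← h]
          exact ⟨q, hq, rfl⟩ }
    have hTmap : (T0 : Subgroup H).map H.subtype = T := by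
      show (T.subgroupOf H).map H.subtype = T
      rw [Subgroup.subgroupOf_map_subtype, inf_eq_left.2 hTH]
    have hidmap : ∀ X : AddSubgroup V0, X.map (AddMonoidHom.id V0) = X := fun X =>
      AddSubgroup.map_id X
    have hWno' : NoOff (T0 : Subgroup H) (W.map (AddMonoidHom.id V0)) :=
      noOff_of_map (G' := G ⧸ N) H.subtype (AddMonoidHom.id V0) Function.injective_id
        (fun _ _ => rfl) W hTmap.le hWno
    rw [hidmap] at hWno'
    have hres := ih _ hlt H V0 rfl hVf (fun h => hfree' (H74.JA.involves_subgroup h)) T0 W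
      (fun s hs => hWinv (s : G ⧸ N) hs) hWno'
    refine ⟨gen H W, le_gen W, fun h hh w hw => smul_mem_gen (G := H) ⟨h, hh⟩ hw, ?_⟩
    exact noOff_to_map (G' := G ⧸ N) H.subtype (AddMonoidHom.id V0) Function.injective_id
      (fun _ _ => rfl) (gen H W) hTmap.ge ((hidmap (gen H W)).symm ▸ hres)
  have hres := closure_faithful hVf hfaith (noThree_of_free hfree') S' U' hinv' hno' hgen' hsub
  have hfin := noOff_of_map (QuotientGroup.mk' N) V0.subtype V0.subtype_injective heq ⊤
    (S := (S : Subgroup G)) hS'.ge hres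
  rwa [← AddMonoidHom.range_eq_map, AddSubgroup.range_subtype] at hfin

/-- In an `S₃`-free group, an invariant part without quadratic over-offenders generates one. -/
theorem closure_noOff {G : Type u} [Group G] [Finite G] {V : Type v} [AddCommGroup V] [Finite V]
    [DistribMulAction G V] (hV : ∀ v : V, v + v = 0) (hfree : ¬ Cfsg.Involves (Equiv.Perm (Fin 3)) G)
    (S : Sylow 2 G) (U : AddSubgroup V) (hinv : ∀ s ∈ (S : Subgroup G), ∀ u ∈ U, s • u ∈ U)
    (hU : NoOff (S : Subgroup G) U) : NoOff (S : Subgroup G) (gen G U) :=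
  closure_aux _ G V rfl hV hfree S U hinv hU

end H75.NoFF
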