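import Cfsg.Agent.H75.NoFF.Basic
import Cfsg.Agent.H75.NoFF.Block

/-!
Counting: a group moving `V` into the common fixed vectors, all of whose subgroups are strictly
below the offender bound, is small by a whole composition factor.
-/

set_option autoImplicit false
set_option linter.unusedSectionVars false
set_option linter.style.haveILetI false

namespace H75.NoFF

open H82.SFree

universe u v

/-- An elementary abelian 2-group has as many functionals as elements. -/
theorem card_dual {H : Type v} [AddCommGroup H] [Finite H] (hH : ∀ x : H, x + x = 0) :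
    Nat.card (H →+ ZMod 2) = Nat.card H := by
  haveI : Fact (Nat.Prime 2) := ⟨Nat.prime_two⟩
  obtain ⟨inst⟩ : Nonempty (Module (ZMod 2) H) :=
    ⟨AddCommGroup.zmodModule fun x => by rw [two_nsmul]; exact hH x⟩
  haveI : Module.Finite (ZMod 2) H := by infer_instance
  haveI : Finite (Module.Dual (ZMod 2) H) := Finite.of_injective _ DFunLike.coe_injective
  have e : (H →+ ZMod 2) ≃ Module.Dual (ZMod 2) H :=
    { toFun := fun f => f.toZModLinearMap 2
      invFun := fun f => f.toAddMonoidHom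
      left_inv := fun f => AddMonoidHom.ext fun _ => rfl
      right_inv := fun f => LinearMap.ext fun _ => rfl }
  rw [Nat.card_congr e, Module.natCard_eq_pow_finrank (K := ZMod 2) (V := Module.Dual (ZMod 2) H),
    Subspace.dual_finrank_eq, ← Module.natCard_eq_pow_finrank (K := ZMod 2) (V := H)]

variable {G : Type u} [Group G] {V : Type v} [AddCommGroup V] [DistribMulAction G V]

theorem smul_fixV_top {v : V} (hv : v ∈ fixV (V := V) (⊤ : Subgroup G)) (g : G) : g • v = v :=
  hv g (Subgroup.mem_top g)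

/-- The action on the quotient by the fixed vectors, as an endomorphism. -/
def ρq (g : G) : AddMonoid.End (V ⧸ fixV (V := V) (⊤ : Subgroup G)) :=
  QuotientAddGroup.map _ _ (DistribSMul.toAddMonoidHom V g) fun v hv => by
    show g • v ∈ fixV (V := V) (⊤ : Subgroup G)
    rw [smul_fixV_top hv g]
    exact hv

theorem ρq_mk (g : G) (v : V) :
    (ρq g : AddMonoid.End (V ⧸ fixV (V := V) (⊤ : Subgroup G))) (QuotientAddGroup.mk v) =
      QuotientAddGroup.mk (g • v) := rfl

/-- The displacement maps of `K`. -/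
def disp (hV : ∀ v : V, v + v = 0) (K : Subgroup G)
    (hK : ∀ k ∈ K, ∀ v : V, k • v - v ∈ fixV (V := V) (⊤ : Subgroup G)) :
    AddSubgroup ((V ⧸ fixV (V := V) (⊤ : Subgroup G)) →+ V) where
  carrier := {φ | ∃ k ∈ K, ∀ v : V, φ (QuotientAddGroup.mk v) = k • v - v}
  zero_mem' := ⟨1, K.one_mem, fun v => by rw [one_smul, sub_self]; rfl⟩
  add_mem' := by
    rintro φ χ ⟨k, hk, hφ⟩ ⟨k', hk', hχ⟩
    refine ⟨k * k', K.mul_mem hk hk', fun v => ?_⟩
    have h := smul_fixV_top (hK k' hk' v) k
    rw [smul_sub, sub_eq_iff_eq_add] at h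
    rw [AddMonoidHom.add_apply, hφ, hχ, mul_smul, h]
    abel
  neg_mem' := by
    rintro φ ⟨k, hk, hφ⟩
    refine ⟨k, hk, fun v => ?_⟩
    rw [AddMonoidHom.neg_apply, hφ, neg_eq_of_add_eq_zero_left (hV (k • v - v))]

theorem count [Finite G] [Finite V] (hV : ∀ v : V, v + v = 0)
    (hfaith : ∀ g : G, (∀ v : V, g • v = v) → g = 1) {K : Subgroup G} [K.Normal]
    (hK : ∀ k ∈ K, ∀ v : V, k • v - v ∈ fixV (V := V) (⊤ : Subgroup G))
    (hstrict : ∀ E : Subgroup G, E ≤ K → E ≠ ⊥ →
      Nat.card E * Nat.card (fixV E : AddSubgroup V) < Nat.card V)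
    {W1 W2 : AddSubgroup V} (hC : fixV (⊤ : Subgroup G) ≤ W1) (hlt : W1 < W2)
    (h1 : ∀ g : G, ∀ w ∈ W1, g • w ∈ W1) (h2 : ∀ g : G, ∀ w ∈ W2, g • w ∈ W2)
    (hsimp : ∀ W : AddSubgroup V, (∀ g : G, ∀ w ∈ W, g • w ∈ W) → W1 ≤ W → W ≤ W2 →
      W = W1 ∨ W = W2) :
    Nat.card (fixV (⊤ : Subgroup G) : AddSubgroup V) * Nat.card K * Nat.card W2 ≤
      Nat.card V * Nat.card W1 := by
  classical
  set C : AddSubgroup V := fixV (⊤ : Subgroup G) with hCdef
  haveI : Finite (AddMonoid.End (V ⧸ C)) :=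
    Finite.of_injective (fun f : AddMonoid.End (V ⧸ C) => (f : (V ⧸ C) → (V ⧸ C))) DFunLike.coe_injective
  set 𝒦 := disp hV K hK with h𝒦
  -- endomorphisms compatible with the displacements
  let R0 : Subring (AddMonoid.End (V ⧸ C)) :=
    { carrier := {f | ∀ φ ∈ 𝒦, AddMonoidHom.comp φ f ∈ 𝒦}
      one_mem' := fun φ hφ => by
        have : AddMonoidHom.comp φ (1 : AddMonoid.End (V ⧸ C)) = φ := AddMonoidHom.ext fun _ => rfl
        rwa [this]
      mul_mem' := fun {f g} hf hg φ hφ => by
        have : AddMonoidHom.comp φ (f * g) = AddMonoidHom.comp (AddMonoidHom.comp φ f) g :=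
          AddMonoidHom.ext fun _ => rfl
        rw [this]
        exact hg _ (hf φ hφ)
      zero_mem' := fun φ _ => by
        have : AddMonoidHom.comp φ (0 : AddMonoid.End (V ⧸ C)) = 0 :=
          AddMonoidHom.ext fun _ => map_zero φ
        rw [this]
        exact 𝒦.zero_mem
      add_mem' := fun {f g} hf hg φ hφ => by
        have : AddMonoidHom.comp φ (f + g) = AddMonoidHom.comp φ f + AddMonoidHom.comp φ g :=
          AddMonoidHom.ext fun m => map_add φ (f m) (g m)
        rw [this]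
        exact 𝒦.add_mem (hf φ hφ) (hg φ hφ)
      neg_mem' := fun {f} hf φ hφ => by
        have : AddMonoidHom.comp φ (-f) = -AddMonoidHom.comp φ f :=
          AddMonoidHom.ext fun m => map_neg φ (f m)
        rw [this]
        exact 𝒦.neg_mem (hf φ hφ) }
  set A : Subring (AddMonoid.End (V ⧸ C)) := Subring.closure (Set.range (ρq (G := G) (V := V))) with hA
  have hρA : ∀ g : G, ρq g ∈ A := fun g => Subring.subset_closure ⟨g, rfl⟩
  have hAR : A ≤ R0 := by
    refine Subring.closure_le.2 ?_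
    rintro _ ⟨g, rfl⟩ φ ⟨k, hk, hφ⟩
    refine ⟨g⁻¹ * k * g, by simpa using Subgroup.Normal.conj_mem ‹K.Normal› k hk g⁻¹, fun v => ?_⟩
    show φ (QuotientAddGroup.mk (g • v)) = _
    rw [hφ, mul_smul, mul_smul]
    refine (smul_fixV_top (hK k hk (g • v)) g⁻¹).symm.trans ?_
    rw [smul_sub, inv_smul_smul]
  haveI : Finite A := Finite.of_injective (fun a : A => (a : AddMonoid.End (V ⧸ C))) Subtype.coe_injective
  -- invariant parts are submodules
  let sub : (W : AddSubgroup V) → (∀ g : G, ∀ w ∈ W, g • w ∈ W) → Submodule A (V ⧸ C) :=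
    fun W hW =>
    { (W.map (QuotientAddGroup.mk' C)).toAddSubmonoid with
      smul_mem' := fun a m hm => by
        let St : Subring (AddMonoid.End (V ⧸ C)) :=
          { carrier := {f | ∀ x ∈ W.map (QuotientAddGroup.mk' C), f x ∈ W.map (QuotientAddGroup.mk' C)}
            one_mem' := fun _ hx => hx
            mul_mem' := fun hf hg x hx => hf _ (hg x hx)
            zero_mem' := fun _ _ => AddSubgroup.zero_mem _
            add_mem' := fun hf hg x hx => AddSubgroup.add_mem _ (hf x hx) (hg x hx)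
            neg_mem' := fun hf x hx => AddSubgroup.neg_mem _ (hf x hx) }
        have hle : A ≤ St := by
          refine Subring.closure_le.2 ?_
          rintro _ ⟨g, rfl⟩ _ ⟨w, hw, rfl⟩
          exact ⟨g • w, hW g w hw, rfl⟩
        exact hle a.2 m hm }
  set Wb1 := sub W1 h1 with hWb1
  set Wb2 := sub W2 h2 with hWb2
  set N : Submodule A ((V ⧸ C) ⧸ Wb1) := Wb2.map Wb1.mkQ with hN
  haveI : Finite ((V ⧸ C) ⧸ Wb1) := Finite.of_surjective _ (Submodule.mkQ_surjective Wb1)
  have hmem1 : ∀ v : V, (QuotientAddGroup.mk v : V ⧸ C) ∈ Wb1 ↔ v ∈ W1 := by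
    intro v
    constructor
    · rintro ⟨w, hw, he⟩
      have h : v - w ∈ C := (QuotientAddGroup.eq_iff_sub_mem).1 he.symm
      simpa using W1.add_mem (hC h) hw
    · exact fun hv => ⟨v, hv, rfl⟩
  -- the section
  let π : W2 →+ N :=
    (Wb1.mkQ.toAddMonoidHom.comp ((QuotientAddGroup.mk' C).comp W2.subtype)).codRestrict N
      fun w => ⟨_, ⟨w.1, w.2, rfl⟩, rfl⟩
  have hπs : Function.Surjective π := by
    rintro ⟨_, _, ⟨w, hw, rfl⟩, rfl⟩
    exact ⟨⟨w, hw⟩, Subtype.ext rfl⟩
  have hπk : ∀ w : W2, π w = 0 ↔ (w : V) ∈ W1 := fun w => by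
    rw [Subtype.ext_iff]
    exact (Submodule.Quotient.mk_eq_zero Wb1).trans (hmem1 w)
  have hNcard : Nat.card N * Nat.card W1 = Nat.card W2 := by
    rw [AddSubgroup.card_eq_card_quotient_mul_card_addSubgroup π.ker,
      Nat.card_congr (QuotientAddGroup.quotientKerEquivOfSurjective π hπs).toEquiv]
    congr 1
    exact Nat.card_congr
      { toFun := fun w => ⟨⟨w.1, hlt.le w.2⟩, (hπk _).2 w.2⟩
        invFun := fun w => ⟨w.1.1, (hπk _).1 w.2⟩
        left_inv := fun _ => rfl
        right_inv := fun _ => rfl }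
  have hN2 : 1 < Nat.card N := by
    obtain ⟨w, hw, hw1⟩ := SetLike.exists_of_lt hlt
    haveI : Nontrivial N := ⟨⟨π ⟨w, hw⟩, 0, fun h => hw1 ((hπk _).1 h)⟩⟩
    exact Finite.one_lt_card
  have hNsimp : IsSimp A N := by
    refine ⟨Finite.one_lt_card_iff_nontrivial.1 hN2, fun Z => ?_⟩
    let W : AddSubgroup V := ((Z.toAddSubgroup).comap π).map W2.subtype
    have hWinv : ∀ g : G, ∀ w ∈ W, g • w ∈ W := by
      rintro g _ ⟨w, hw, rfl⟩
      refine ⟨⟨g • (w : V), h2 g w w.2⟩, ?_, rfl⟩
      have he : π ⟨g • (w : V), h2 g w w.2⟩ = (⟨ρq g, hρA g⟩ : A) • π w := Subtype.ext rfl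
      show π _ ∈ Z
      rw [he]
      exact Z.smul_mem _ hw
    have hW1 : W1 ≤ W := fun w hw => ⟨⟨w, hlt.le hw⟩, by
      show π _ ∈ Z
      rw [(hπk ⟨w, hlt.le hw⟩).2 hw]
      exact Z.zero_mem, rfl⟩
    rcases hsimp W hWinv hW1 (AddSubgroup.map_subtype_le _) with hW | hW
    · left
      rw [eq_bot_iff]
      intro z hz
      obtain ⟨w, rfl⟩ := hπs z
      have : (w : V) ∈ W := ⟨w, hz, rfl⟩
      rw [hW] at this
      rw [Submodule.mem_bot]
      exact (hπk w).2 this
    · right
      rw [eq_top_iff]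
      intro z _
      obtain ⟨w, rfl⟩ := hπs z
      have hwW : (w : V) ∈ W := by rw [hW]; exact w.2
      obtain ⟨w', hw', he⟩ := hwW
      rw [← (Subtype.ext he : w' = w)]
      exact hw'
  obtain ⟨e, hee, heN, hpow⟩ := exists_block.{v, v, v} (A := A) N hNsimp
  -- the dual module
  haveI : Finite ((V ⧸ C) →+ V) := Finite.of_injective _ DFunLike.coe_injective
  haveI : Finite (↥𝒦 →+ ZMod 2) := Finite.of_injective _ DFunLike.coe_injective
  let act : A → ↥𝒦 →+ ↥𝒦 := fun a =>
    { toFun := fun φ => ⟨AddMonoidHom.comp φ.1 a.1, hAR a.2 φ.1 φ.2⟩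
      map_zero' := Subtype.ext (AddMonoidHom.ext fun _ => rfl)
      map_add' := fun φ χ => Subtype.ext (AddMonoidHom.ext fun _ => rfl) }
  letI : Module A (↥𝒦 →+ ZMod 2) :=
    { smul := fun a l => l.comp (act a)
      one_smul := fun l => AddMonoidHom.ext fun φ => congrArg l (Subtype.ext (AddMonoidHom.ext fun _ => rfl))
      mul_smul := fun a b l => AddMonoidHom.ext fun φ => congrArg l (Subtype.ext (AddMonoidHom.ext fun _ => rfl))
      smul_zero := fun a => AddMonoidHom.ext fun _ => rfl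
      smul_add := fun a l l' => AddMonoidHom.ext fun _ => rfl
      add_smul := fun a b l => AddMonoidHom.ext fun φ => by
        show l (act (a + b) φ) = l (act a φ) + l (act b φ)
        rw [← map_add]
        exact congrArg l (Subtype.ext (AddMonoidHom.ext fun m => map_add φ.1 (a.1 m) (b.1 m)))
      zero_smul := fun l => AddMonoidHom.ext fun φ => by
        show l (act 0 φ) = 0
        rw [show act 0 φ = 0 from Subtype.ext (AddMonoidHom.ext fun m => map_zero φ.1), map_zero] }
  -- the offender bound for the image of an element of `A`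
  have bound : ∀ a : A, Nat.card (act a).range ≤ Nat.card (AddMonoidHom.range (a.1 : (V ⧸ C) →+ (V ⧸ C))) ∧
      (1 < Nat.card (act a).range →
        Nat.card (act a).range < Nat.card (AddMonoidHom.range (a.1 : (V ⧸ C) →+ (V ⧸ C)))) := by
    intro a
    set f : (V ⧸ C) →+ (V ⧸ C) := a.1 with hf
    let E : Subgroup G :=
      { carrier := {k | k ∈ K ∧ ∃ φ ∈ 𝒦, ∀ v : V, k • v - v = φ (f (QuotientAddGroup.mk v))}
        one_mem' := ⟨K.one_mem, 0, 𝒦.zero_mem, fun v => by rw [one_smul, sub_self]; rfl⟩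
        mul_mem' := by
          rintro k k' ⟨hk, φ, hφ, hk1⟩ ⟨hk', χ, hχ, hk1'⟩
          refine ⟨K.mul_mem hk hk', φ + χ, 𝒦.add_mem hφ hχ, fun v => ?_⟩
          have h := smul_fixV_top (hK k' hk' v) k
          rw [smul_sub, sub_eq_iff_eq_add] at h
          rw [AddMonoidHom.add_apply, ← hk1, ← hk1', mul_smul, h]
          abel
        inv_mem' := by
          intro k hk
          have hk2 : k * k = 1 := stabU_sq hV hfaith (U := C)
            ⟨fun u hu => smul_fixV_top hu k, fun v => hK k hk.1 v⟩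
          rw [inv_eq_of_mul_eq_one_right hk2]
          exact hk }
    have hEcard : Nat.card E = Nat.card (act a).range := by
      have hex : ∀ k : E, ∃ ψ : (act a).range, ∀ v : V, ψ.1.1 (QuotientAddGroup.mk v) = (k : G) • v - v := by
        intro k
        obtain ⟨_, φ, hφ, h⟩ := k.2
        exact ⟨⟨act a ⟨φ, hφ⟩, _, rfl⟩, fun v => (h v).symm⟩
      choose F hF using hex
      refine Nat.card_congr (Equiv.ofBijective F ⟨fun k k' he => ?_, fun ψ => ?_⟩)
      · have h : ∀ v : V, (k : G) • v = (k' : G) • v := fun v =>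
          sub_left_injective ((hF k v).symm.trans (he ▸ hF k' v))
        refine Subtype.ext (inv_mul_eq_one.1 (hfaith _ fun v => ?_)).symm
        rw [mul_smul, h, inv_smul_smul]
      · obtain ⟨⟨ψ, hψ⟩, ⟨φ, hφ⟩⟩ := ψ
        obtain ⟨k, hk, hkv⟩ := hψ
        have hcomp : AddMonoidHom.comp φ.1 f = ψ := congrArg Subtype.val hφ
        refine ⟨⟨k, hk, φ.1, φ.2, fun v => ?_⟩, ?_⟩
        · rw [← hkv, ← hcomp]
          rfl
        · refine Subtype.ext (Subtype.ext (QuotientAddGroup.addMonoidHom_ext _ (AddMonoidHom.ext fun v => ?_)))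
          exact (hF ⟨k, hk, φ.1, φ.2, fun v => by rw [← hkv, ← hcomp]; rfl⟩ v).trans (hkv v).symm
    let g0 : V →+ (V ⧸ C) := f.comp (QuotientAddGroup.mk' C)
    have hker : g0.ker ≤ fixV E := by
      intro v hv k hk
      obtain ⟨_, φ, _, h⟩ := hk
      have h0 : f (QuotientAddGroup.mk v) = 0 := hv
      have := h v
      rw [h0, map_zero, sub_eq_zero] at this
      exact this
    have hVcard : Nat.card V = Nat.card f.range * Nat.card g0.ker := by
      rw [AddSubgroup.card_eq_card_quotient_mul_card_addSubgroup g0.ker,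
        Nat.card_congr (QuotientAddGroup.quotientKerEquivRange g0).toEquiv]
      congr 2
      congr 1
      rw [AddMonoidHom.range_comp, AddMonoidHom.range_eq_top.2 (QuotientAddGroup.mk'_surjective C),
        ← AddMonoidHom.range_eq_map]
    by_cases hE : E = ⊥
    · rw [← hEcard, hE, Subgroup.card_bot]
      exact ⟨Nat.card_pos, fun h => absurd h (lt_irrefl 1)⟩
    · have h := hstrict E (fun k hk => hk.1) hE
      have h' := Nat.mul_le_mul_left (Nat.card E) (AddSubgroup.card_le_of_le hker)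
      rw [hVcard, hEcard] at h
      rw [hEcard] at h'
      have hlt' := Nat.lt_of_mul_lt_mul_right (h'.trans_lt h)
      exact ⟨hlt'.le, fun _ => hlt'⟩
  -- the exponents
  obtain ⟨p, hp⟩ := hpow (V ⧸ C)
  obtain ⟨q, hq⟩ := hpow (↥𝒦 →+ ZMod 2)
  have hfixM : Nat.card (AddMonoidHom.range (e.1 : (V ⧸ C) →+ (V ⧸ C))) = Nat.card N ^ p := by
    rw [← hp]
    refine Nat.card_congr (Equiv.subtypeEquivRight fun m => ⟨?_, fun hm => ⟨m, hm⟩⟩)
    rintro ⟨m', rfl⟩
    show e.1 (e.1 m') = e.1 m'
    exact DFunLike.congr_fun (congrArg Subtype.val hee) m'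
  have hidemT : ∀ φ, act e (act e φ) = act e φ := fun φ => Subtype.ext (AddMonoidHom.ext fun m =>
    congrArg φ.1 (DFunLike.congr_fun (congrArg Subtype.val hee) m))
  have h𝒦2 : ∀ φ : (act e).range, φ + φ = 0 := fun φ =>
    Subtype.ext (Subtype.ext (AddMonoidHom.ext fun m => hV _))
  have hfixK : Nat.card (act e).range = Nat.card N ^ q := by
    rw [← hq, ← card_dual h𝒦2]
    refine Nat.card_congr
      { toFun := fun μ => ⟨μ.comp (act e).rangeRestrict, ?_⟩
        invFun := fun l => l.1.comp (act e).range.subtype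
        left_inv := fun μ => ?_
        right_inv := fun l => ?_ }
    · show (μ.comp (act e).rangeRestrict).comp (act e) = μ.comp (act e).rangeRestrict
      exact AddMonoidHom.ext fun φ => congrArg μ (Subtype.ext (hidemT φ))
    · refine AddMonoidHom.ext fun φ => congrArg μ (Subtype.ext ?_)
      obtain ⟨φ, χ, rfl⟩ := φ
      exact hidemT χ
    · exact Subtype.ext (AddMonoidHom.ext fun φ => DFunLike.congr_fun l.2 φ)
  have hp1 : 1 ≤ p := by
    by_contra h
    have hp0 : p = 0 := by omega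
    rw [hp0, pow_zero] at hfixM
    haveI := (Nat.card_eq_one_iff_unique.1 hfixM).1
    obtain ⟨w, hw, hw1⟩ := SetLike.exists_of_lt hlt
    have h0 : e.1 (QuotientAddGroup.mk w) = 0 :=
      congrArg Subtype.val (Subsingleton.elim
        (⟨_, QuotientAddGroup.mk w, rfl⟩ : AddMonoidHom.range (e.1 : (V ⧸ C) →+ (V ⧸ C))) 0)
    refine hw1 ((hπk ⟨w, hw⟩).1 ?_)
    rw [← heN (π ⟨w, hw⟩)]
    refine Subtype.ext ?_
    show Wb1.mkQ (e.1 (QuotientAddGroup.mk w)) = 0
    rw [h0, map_zero]
  have hmain : Nat.card (act e).range * Nat.card N ≤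
      Nat.card (AddMonoidHom.range (e.1 : (V ⧸ C) →+ (V ⧸ C))) := by
    by_cases h : 1 < Nat.card (act e).range
    · have hlt' := (bound e).2 h
      rw [hfixK, hfixM] at hlt' ⊢
      rw [← pow_succ]
      exact Nat.pow_le_pow_right (by omega) ((Nat.pow_lt_pow_iff_right hN2).1 hlt')
    · have h1' : Nat.card (act e).range = 1 := le_antisymm (by omega) Nat.card_pos
      rw [h1', one_mul, hfixM]
      exact Nat.le_self_pow (by omega) _
  -- the complementary idempotent
  have hrest : Nat.card (act e).ker ≤ Nat.card (AddMonoidHom.ker (e.1 : (V ⧸ C) →+ (V ⧸ C))) := by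
    refine le_trans ?_ ((bound (1 - e)).1.trans ?_)
    · refine AddSubgroup.card_le_of_le fun φ hφ => ⟨φ, Subtype.ext (AddMonoidHom.ext fun m => ?_)⟩
      show φ.1 (m - e.1 m) = φ.1 m
      rw [map_sub, show φ.1 (e.1 m) = 0 from DFunLike.congr_fun (congrArg Subtype.val hφ) m, sub_zero]
    · refine AddSubgroup.card_le_of_le ?_
      rintro _ ⟨m, rfl⟩
      show e.1 (m - e.1 m) = 0
      rw [map_sub, show e.1 (e.1 m) = e.1 m from DFunLike.congr_fun (congrArg Subtype.val hee) m,
        sub_self]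
  have hKcard : Nat.card K = Nat.card (act e).range * Nat.card (act e).ker := by
    rw [← Nat.card_congr (QuotientAddGroup.quotientKerEquivRange (act e)).toEquiv,
      ← AddSubgroup.card_eq_card_quotient_mul_card_addSubgroup]
    have hex : ∀ k : K, ∃ φ : ↥𝒦, ∀ v : V, φ.1 (QuotientAddGroup.mk v) = (k : G) • v - v := by
      intro k
      refine ⟨⟨QuotientAddGroup.lift C (DistribSMul.toAddMonoidHom V (k : G) - AddMonoidHom.id V)
        (fun v hv => ?_), k, k.2, fun v => rfl⟩, fun v => rfl⟩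
      show (k : G) • v - v = 0
      rw [smul_fixV_top hv, sub_self]
    choose F hF using hex
    refine Nat.card_congr (Equiv.ofBijective F ⟨fun k k' he => ?_, fun φ => ?_⟩)
    · have h : ∀ v : V, (k : G) • v = (k' : G) • v := fun v =>
        sub_left_injective ((hF k v).symm.trans (he ▸ hF k' v))
      refine Subtype.ext (inv_mul_eq_one.1 (hfaith _ fun v => ?_)).symm
      rw [mul_smul, h, inv_smul_smul]
    · obtain ⟨φ, k, hk, hkv⟩ := φ
      exact ⟨⟨k, hk⟩, Subtype.ext (QuotientAddGroup.addMonoidHom_ext _ (AddMonoidHom.ext fun v =>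
        (hF ⟨k, hk⟩ v).trans (hkv v).symm))⟩
  have hMcard := AddSubgroup.card_eq_card_quotient_mul_card_addSubgroup
    (AddMonoidHom.ker (e.1 : (V ⧸ C) →+ (V ⧸ C)))
  rw [Nat.card_congr (QuotientAddGroup.quotientKerEquivRange (e.1 : (V ⧸ C) →+ (V ⧸ C))).toEquiv]
    at hMcard
  rw [AddSubgroup.card_eq_card_quotient_mul_card_addSubgroup C, hMcard, hKcard, ← hNcard]
  calc Nat.card C * (Nat.card (act e).range * Nat.card (act e).ker) * (Nat.card N * Nat.card W1)
      = Nat.card C * ((Nat.card (act e).range * Nat.card N) * Nat.card (act e).ker) * Nat.card W1 := by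
        ring
    _ ≤ Nat.card C * (Nat.card (AddMonoidHom.range (e.1 : (V ⧸ C) →+ (V ⧸ C))) *
          Nat.card (AddMonoidHom.ker (e.1 : (V ⧸ C) →+ (V ⧸ C)))) * Nat.card W1 :=
        Nat.mul_le_mul_right _ (Nat.mul_le_mul_left _ (Nat.mul_le_mul hmain hrest))
    _ = _ := by ring

end H75.NoFF
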